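import Mathlib
import Cfsg.Agent.Lib.StdW.Basic

/-! The calculus of covers. -/

set_option autoImplicit false

namespace H36.SW

open Subgroup H69
open scoped commutatorElement

variable {X : Type} [Group X] {G : Type*} [Group G]

theorem card_sup_comm [Finite G] {A B : Subgroup G} (c : ∀ a ∈ A, ∀ b ∈ B, a * b = b * a)
    (h : ∀ a ∈ A, a ∈ B → a = 1) : Nat.card (A ⊔ B : Subgroup G) = Nat.card A * Nat.card B := by
  have := H1.card_sup_mul_card_inf_of_le_normalizer (H := A) (N := B)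
    (le_normalizer_of_le_centralizer fun a ha b hb => (c a ha b hb).symm)
  rwa [(eq_bot_iff_forall _).2 fun x (hx : x ∈ A ⊓ B) => h x hx.1 hx.2, card_bot, mul_one] at this

theorem mem_sup_comm {A B : Subgroup G} (c : ∀ a ∈ A, ∀ b ∈ B, a * b = b * a) {x : G} :
    x ∈ A ⊔ B ↔ ∃ a ∈ A, ∃ b ∈ B, x = a * b :=
  mem_sup_of_le_normalizer_right (le_normalizer_of_le_centralizer fun a ha b hb => (c a ha b hb).symm)

theorem mem_zp {t x : G} (h : t * t = 1) : x ∈ zpowers t ↔ x = 1 ∨ x = t := by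
  refine ⟨fun hx => ?_, fun hx => hx.elim (· ▸ one_mem _) (· ▸ mem_zpowers _)⟩
  obtain ⟨k, rfl⟩ := hx
  have h2 : t ^ (2 : ℤ) = 1 := by rw [zpow_two, h]
  rcases Int.even_or_odd' k with ⟨m, rfl | rfl⟩
  · exact Or.inl (by simp only [zpow_mul, h2, one_zpow])
  · exact Or.inr (by simp only [zpow_add, zpow_mul, h2, one_zpow, zpow_one, one_mul])

theorem card_zp {t : G} (h : t * t = 1) (h1 : t ≠ 1) : Nat.card (zpowers t) = 2 := by
  rw [Nat.card_zpowers, H9.orderOf_eq_two_of_mul_self h1 h]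

theorem comm_cen {A : Subgroup G} {x y u v : G} (hx : x ∈ A) (hy : y * v ∈ A) (hu : u ∈ 𝐂(A))
    (hv : v ∈ 𝐂(A)) : ⁅x * u, y * v⁆ = ⁅x, y⁆ := by
  calc _ = x * (u * (y * v)) * u⁻¹ * x⁻¹ * (y * v)⁻¹ := by rw [commutatorElement_def]; group
    _ = x * y * (v * x⁻¹) * v⁻¹ * y⁻¹ := by rw [← hu _ hy]; group
    _ = _ := by rw [← hv _ (inv_mem hx), commutatorElement_def]; group

/-- an automorphism which is trivial modulo the centre of a perfect group is trivial -/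
theorem mem_cent_of_perf {A : Subgroup G} (hp : A ≤ ⁅A, A⁆) {g : G} (hg : g ∈ 𝐍(A))
    (h : ∀ a ∈ A, a⁻¹ * (g * a * g⁻¹) ∈ 𝐂(A)) : g ∈ 𝐂(A) := by
  have : A ≤ centralizer {g} := hp.trans (commutator_le.2 fun a ha b hb => ?_)
  · exact fun a ha => mem_centralizer_singleton_iff.1 (this ha)
  have := comm_cen (y := b) ha (by rw [mul_inv_cancel_left]; exact conj_mem_of_mem_normalizer hg hb)
    (h a ha) (h b hb)
  rw [mul_inv_cancel_left, mul_inv_cancel_left, ← conjugate_commutatorElement] at this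
  rw [mem_centralizer_singleton_iff, ← mul_inv_eq_iff_eq_mul.1 this]

namespace Cov
variable {J : Subgroup X} {A : Subgroup G} {α : G → X} (c : Cov J A α)
include c

theorem one : α 1 = 1 := by
  have := c.mul 1 (one_mem _) 1 (one_mem _)
  rw [mul_one] at this
  exact (mul_eq_left.1 this.symm)

/-- `α` as a homomorphism -/
def hom : 𝐍(A) →* X := ⟨⟨fun g => α g, c.one⟩, fun g k => c.mul g g.2 k k.2⟩

theorem inv {g : G} (hg : g ∈ 𝐍(A)) : α g⁻¹ = (α g)⁻¹ := c.hom.map_inv ⟨g, hg⟩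
theorem pow {g : G} (hg : g ∈ 𝐍(A)) (n : ℕ) : α (g ^ n) = α g ^ n := c.hom.map_pow ⟨g, hg⟩ n
theorem conj {g a : G} (hg : g ∈ 𝐍(A)) (ha : a ∈ 𝐍(A)) : α (g * a * g⁻¹) = α g * α a * (α g)⁻¹ := by
  rw [c.mul _ (mul_mem hg ha) _ (inv_mem hg), c.mul _ hg _ ha, c.inv hg]
theorem mul' {a b : G} (ha : a ∈ A) (hb : b ∈ A) : α (a * b) = α a * α b :=
  c.mul _ (le_normalizer ha) _ (le_normalizer hb)
theorem cen {g : G} (hg : g ∈ 𝐂(A)) : α g = 1 := (c.ker g (centralizer_le_normalizer _ hg)).2 hg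
theorem mul_cen {g k : G} (hg : g ∈ 𝐍(A)) (hk : k ∈ 𝐂(A)) : α (g * k) = α g := by
  rw [c.mul _ hg _ (centralizer_le_normalizer _ hk), c.cen hk, mul_one]
theorem cen_mul {g k : G} (hg : g ∈ 𝐍(A)) (hk : k ∈ 𝐂(A)) : α (k * g) = α g := by
  rw [c.mul _ (centralizer_le_normalizer _ hk) _ hg, c.cen hk, one_mul]
theorem comm {g k : G} (hg : g ∈ 𝐍(A)) (hk : k ∈ 𝐍(A)) (e : g * k = k * g) : α g * α k = α k * α g := by
  rw [← c.mul _ hg _ hk, e, c.mul _ hk _ hg]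
theorem sq {g : G} (hg : g ∈ 𝐍(A)) (e : g * g = 1) : α g * α g = 1 := by rw [← c.mul _ hg _ hg, e, c.one]
theorem p2 {g : G} (hg : g ∈ 𝐍(A)) (e : P2 g) : P2 (α g) :=
  let ⟨k, hk⟩ := e; ⟨k, by rw [← c.pow hg, hk, c.one]⟩
theorem inv_mul_mem {g k : G} (hg : g ∈ 𝐍(A)) (hk : k ∈ 𝐍(A)) (e : α g = α k) : g⁻¹ * k ∈ 𝐂(A) :=
  (c.ker _ (mul_mem (inv_mem hg) hk)).1 (by rw [c.mul _ (inv_mem hg) _ hk, c.inv hg, e, inv_mul_cancel])
theorem odd' {a : G} (ha : a ∈ A) (h : a ∈ 𝐂(A)) : Odd (orderOf a) := c.odd a ha (c.cen h)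
theorem eq_one {a : G} (ha : a ∈ A) (h2 : P2 a) (h : α a = 1) : a = 1 := h2.eq_one (c.odd a ha h)

/-- `2`-elements of `A` are determined by their image -/
theorem uniq {a b : G} (ha : a ∈ A) (hb : b ∈ A) (a2 : P2 a) (b2 : P2 b) (e : α a = α b) : a = b := by
  have h := c.inv_mul_mem (le_normalizer ha) (le_normalizer hb) e
  have := a2.odd_eq_one (o := a⁻¹ * b) (by rwa [mul_inv_cancel_left]) (h a ha)
    (c.odd' (mul_mem (inv_mem ha) hb) h)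
  exact inv_mul_eq_one.1 this

theorem conj_eq {g a b : G} (hg : g ∈ 𝐍(A)) (ha : a ∈ A) (hb : b ∈ A) (a2 : P2 a) (b2 : P2 b)
    (e : α g * α a * (α g)⁻¹ = α b) : g * a * g⁻¹ = b :=
  c.uniq (conj_mem_of_mem_normalizer hg ha) hb (a2.conj g) b2 (by rw [c.conj hg (le_normalizer ha), e])

theorem comm_lift {g a : G} (hg : g ∈ 𝐍(A)) (ha : a ∈ A) (a2 : P2 a) (e : α g * α a = α a * α g) :
    g * a = a * g :=
  mul_inv_eq_iff_eq_mul.1 (c.conj_eq hg ha ha a2 a2 (mul_inv_eq_iff_eq_mul.2 e))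

/-- a subgroup of `A` mapping onto `J` is `A` -/
theorem gen {D : Subgroup G} (hD : D ≤ A) (h : ∀ j ∈ J, ∃ d ∈ D, α d = j) : A ≤ D := by
  refine c.perf.trans (commutator_le.2 fun a ha b hb => ?_)
  obtain ⟨x, hx, ex⟩ := h _ (c.mem a ha)
  obtain ⟨y, hy, ey⟩ := h _ (c.mem b hb)
  obtain ⟨u, hu, rfl⟩ : ∃ u ∈ 𝐂(A), a = x * u :=
    ⟨_, c.inv_mul_mem (le_normalizer (hD hx)) (le_normalizer ha) ex, by group⟩
  obtain ⟨v, hv, rfl⟩ : ∃ v ∈ 𝐂(A), b = y * v :=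
    ⟨_, c.inv_mul_mem (le_normalizer (hD hy)) (le_normalizer hb) ey, by group⟩
  rw [comm_cen (hD hx) hb hu hv, commutatorElement_def]
  exact mul_mem (mul_mem (mul_mem hx hy) (inv_mem hx)) (inv_mem hy)

/-- the image of a subgroup of `N(A)` -/
def im (E : Subgroup G) : Subgroup X := (E.subgroupOf 𝐍(A)).map c.hom

theorem mem_im {E : Subgroup G} {x : X} : x ∈ c.im E ↔ ∃ e ∈ E, e ∈ 𝐍(A) ∧ α e = x :=
  ⟨fun ⟨e, he, h⟩ => ⟨e, he, e.2, h⟩, fun ⟨e, he, hn, h⟩ => ⟨⟨e, hn⟩, he, h⟩⟩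

/-- the preimage in `N(A)` -/
def pre (Y : Subgroup X) : Subgroup G := (Y.comap c.hom).map (𝐍(A)).subtype

theorem mem_pre {Y : Subgroup X} {g : G} : g ∈ c.pre Y ↔ g ∈ 𝐍(A) ∧ α g ∈ Y :=
  ⟨fun ⟨e, he, h⟩ => h ▸ ⟨e.2, he⟩, fun ⟨hn, h⟩ => ⟨⟨g, hn⟩, h, rfl⟩⟩

theorem card_im {E : Subgroup G} (hE : E ≤ 𝐍(A)) :
    Nat.card E = Nat.card (c.im E) * Nat.card (E ⊓ 𝐂(A) : Subgroup G) := by
  let f : E →* X := c.hom.comp (inclusion hE)
  have h1 : f.range = c.im E := by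
    ext x; rw [c.mem_im]
    exact ⟨fun ⟨e, h⟩ => ⟨e, e.2, hE e.2, h⟩, fun ⟨e, he, _, h⟩ => ⟨⟨e, he⟩, h⟩⟩
  have h2 : f.ker.map E.subtype = E ⊓ 𝐂(A) := by
    ext x
    exact ⟨fun ⟨e, he, h⟩ => h ▸ ⟨e.2, (c.ker _ (hE e.2)).1 he⟩,
      fun h => ⟨⟨x, h.1⟩, c.cen h.2, rfl⟩⟩
  rw [← h1, ← h2, card_map_of_injective E.subtype_injective, ← index_ker, mul_comm, card_mul_index]

theorem isP_im {E : Subgroup G} (h : IsPGroup 2 E) : IsPGroup 2 (c.im E) :=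
  h.comap_subtype.map _

/-- statements about `closure` lift -/
theorem of_closure {s : Set X} {D : Subgroup G} (hD : D ≤ 𝐍(A))
    (h : ∀ x ∈ s, ∃ d ∈ D, α d = x) {x : X} (hx : x ∈ closure s) : ∃ d ∈ D, α d = x := by
  have : closure s ≤ c.im D := (closure_le _).2 fun x hx =>
    let ⟨d, hd, e⟩ := h x hx; c.mem_im.2 ⟨d, hd, hD hd, e⟩
  obtain ⟨d, hd, -, e⟩ := c.mem_im.1 (this hx)
  exact ⟨d, hd, e⟩

/-- a normal subgroup of `A` with nontrivial image is `A` -/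
theorem le_of_normal (hJ : IsSimpleGroup J) {M : Subgroup G} (hM : M ≤ A) (hn : A ≤ 𝐍(M)) {m : G}
    (hm : m ∈ M) (h1 : α m ≠ 1) : A ≤ M := by
  have n : ((c.im M).subgroupOf J).Normal := ⟨fun x hx j => by
    obtain ⟨e, he, en, h⟩ := c.mem_im.1 hx
    obtain ⟨a, ha, ea⟩ := c.onto j j.2
    exact c.mem_im.2 ⟨_, conj_mem_of_mem_normalizer (hn ha) he,
      mul_mem (mul_mem (le_normalizer ha) en) (inv_mem (le_normalizer ha)),
      by rw [c.conj (le_normalizer ha) en, ea, h]; rfl⟩⟩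
  rcases n.eq_bot_or_eq_top with e | e
  · have : (⟨α m, c.mem m (hM hm)⟩ : J) ∈ (c.im M).subgroupOf J :=
      c.mem_im.2 ⟨m, hm, le_normalizer (hM hm), rfl⟩
    rw [e, mem_bot] at this
    exact absurd (congrArg Subtype.val this) h1
  · refine c.gen hM fun j hj => ?_
    have : (⟨j, hj⟩ : J) ∈ (c.im M).subgroupOf J := e ▸ mem_top _
    obtain ⟨d, hd, -, e⟩ := c.mem_im.1 this
    exact ⟨d, hd, e⟩

theorem cj (g : G) : Cov J (A ^ᶜ g) fun x => α (g⁻¹ * x * g) := by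
  have n : ∀ {x}, x ∈ 𝐍(A ^ᶜ g) → g⁻¹ * x * g ∈ 𝐍(A) := fun h => by rwa [← cj_normalizer, mem_cj] at h
  refine ⟨fun x hx y hy => ?_, fun a ha => c.mem _ (mem_cj.1 ha), fun j hj => ?_, fun x hx => ?_,
    fun a ha h => ?_, ?_⟩
  · rw [← c.mul _ (n hx) _ (n hy)]; congr 1; group
  · obtain ⟨a, ha, e⟩ := c.onto j hj
    exact ⟨_, cj_mem g ha, by simpa [mul_assoc] using e⟩
  · rw [← cj_centralizer, mem_cj]; exact c.ker _ (n hx)
  · rw [← H9.orderOf_conj' g a]; exact c.odd _ (mem_cj.1 ha) h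
  · rw [← cj_commutator]; exact cj_mono g c.perf

variable [Finite G]

theorem liftp {p : ℕ} (hp : p.Prime) {j : X} (hj : j ∈ J) {k : ℕ} (h : j ^ p ^ k = 1) :
    ∃ a ∈ A, α a = j ∧ ∃ K : ℕ, a ^ p ^ K = 1 := by
  obtain ⟨a, ha, rfl⟩ := c.onto j hj
  obtain ⟨m, K, h1, h2⟩ := exists_ppart a hp k
  exact ⟨_, pow_mem ha m, by rw [c.pow (le_normalizer ha), pow_of_modEq h h1], K, h2⟩

theorem lift2 {j : X} (hj : j ∈ J) (h : P2 j) : ∃ a ∈ A, α a = j ∧ P2 a :=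
  let ⟨_, hk⟩ := h; c.liftp Nat.prime_two hj hk

omit [Finite G] in
theorem pow_eq_one {a : G} (ha : a ∈ A) (a2 : P2 a) {n : ℕ} (h : α a ^ n = 1) : a ^ n = 1 :=
  c.eq_one (pow_mem ha n) (a2.pow n) (by rw [c.pow (le_normalizer ha), h])

theorem lifti {j : X} (hj : j ∈ J) (h : j * j = 1) : ∃ a ∈ A, α a = j ∧ a * a = 1 := by
  obtain ⟨a, ha, rfl, h2⟩ := c.lift2 hj (P2.of_sq h)
  exact ⟨a, ha, rfl, by rw [← pow_two] at h ⊢; exact c.pow_eq_one ha h2 h⟩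

/-- the lift of a `2`-subgroup of `J` -/
theorem exists_lift {Y : Subgroup X} (hY : Y ≤ J) (h2 : IsPGroup 2 Y) :
    ∃ P : Subgroup G, (∀ a, a ∈ P ↔ a ∈ A ∧ P2 a ∧ α a ∈ Y) ∧ Nat.card P = Nat.card Y := by
  obtain ⟨P, hP⟩ := exists_isSylowIn 2 (A ⊓ c.pre Y)
  have PN : P ≤ 𝐍(A) := hP.le.trans (inf_le_left.trans le_normalizer)
  have e1 : c.im (A ⊓ c.pre Y) = Y := by
    ext x; rw [c.mem_im]
    refine ⟨fun ⟨e, he, _, h⟩ => h ▸ (c.mem_pre.1 he.2).2, fun hx => ?_⟩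
    obtain ⟨a, ha, rfl⟩ := c.onto x (hY hx)
    exact ⟨a, ⟨ha, c.mem_pre.2 ⟨le_normalizer ha, hx⟩⟩, le_normalizer ha, rfl⟩
  have h3 : IsSylowIn 2 (c.im P) Y :=
    e1 ▸ (hP.subgroupOf (inf_le_left.trans le_normalizer)).map c.hom
  have e2 : c.im P = Y := (h3.max Y h3.le le_rfl h2).symm
  refine ⟨P, fun a => ⟨fun ha => ⟨(hP.le ha).1, P2.of_mem hP.isP ha, (c.mem_pre.1 (hP.le ha).2).2⟩,
    fun ⟨ha, a2, h⟩ => ?_⟩, ?_⟩
  · obtain ⟨b, hb, -, e⟩ := c.mem_im.1 (e2 ▸ h)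
    rwa [← c.uniq (hP.le hb).1 ha (P2.of_mem hP.isP hb) a2 e]
  · rw [c.card_im PN, e2, (eq_bot_iff_forall _).2 fun x (hx : x ∈ P ⊓ 𝐂(A)) =>
      (P2.of_mem hP.isP hx.1).eq_one (c.odd' (hP.le hx.1).1 hx.2), card_bot, mul_one]

end Cov

/-- a perfect central extension of `J` with centre of odd order is a cover -/
theorem exists_cov (F : Fx X) [Finite X] {A : Subgroup G} (f : A →* X) (hm : ∀ a, f a ∈ F.J)
    (ho : ∀ j ∈ F.J, ∃ a, f a = j) (hk : ∀ a : A, f a = 1 → (a : G) ∈ 𝐂(A) ∧ Odd (orderOf (a : G)))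
    (hp : A ≤ ⁅A, A⁆) : ∃ α : G → X, Cov F.J A α ∧ ∀ a : A, α a = f a := by
  classical
  have kz : ∀ a : A, (a : G) ∈ 𝐂(A) → f a = 1 := fun a ha => F.cJ fun j hj => by
    obtain ⟨b, rfl⟩ := ho j hj
    rw [← map_mul, ← map_mul]; congr 1; exact Subtype.ext (ha b b.2).symm
  let f' : A →* F.J := f.codRestrict _ hm
  have sj : Function.Surjective f' := fun j => let ⟨a, h⟩ := ho j j.2; ⟨a, Subtype.ext h⟩
  have key : ∀ g : 𝐍(A), ∃ x : X, ∀ a : A, f (A.normalizerMonoidHom g a) = x * f a * x⁻¹ := fun g => by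
    have nz : ∀ a : A, f (A.normalizerMonoidHom g a) = 1 ↔ f a = 1 := fun a =>
      ⟨fun h => kz _ (by
        have := conj_mem_of_mem_normalizer' (normalizer_le_normalizer_centralizer A g.2) (hk _ h).1
        simpa [mul_assoc] using this),
      fun h => kz _ (conj_mem_of_mem_normalizer (normalizer_le_normalizer_centralizer A g.2) (hk _ h).1)⟩
    let ψ : F.J →* F.J := f'.liftOfSurjective sj ⟨f'.comp (A.normalizerMonoidHom g).toMonoidHom,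
      fun a ha => Subtype.ext ((nz a).2 (congrArg Subtype.val ha))⟩
    have e : ∀ a, ψ (f' a) = f' (A.normalizerMonoidHom g a) := fun a =>
      f'.liftOfRightInverse_comp_apply _ _ _ a
    have inj : Function.Injective ψ := (injective_iff_map_eq_one _).2 fun j hj => by
      obtain ⟨a, rfl⟩ := sj j
      rw [e] at hj
      exact Subtype.ext ((nz a).1 (congrArg Subtype.val hj))
    obtain ⟨x, hx⟩ := F.aut (MulEquiv.ofBijective ψ (Finite.injective_iff_bijective.1 inj))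
    exact ⟨x, fun a => (congrArg Subtype.val (e a)).symm.trans (hx (f' a))⟩
  choose β hβ using key
  have un : ∀ (g : 𝐍(A)) (x : X), (∀ a : A, f (A.normalizerMonoidHom g a) = x * f a * x⁻¹) → β g = x :=
    fun g x h => (inv_mul_eq_one.1 (F.cJ (g := x⁻¹ * β g) fun j hj => by
      obtain ⟨a, rfl⟩ := ho j hj
      calc _ = x⁻¹ * (β g * f a * (β g)⁻¹) * β g := by group
        _ = _ := by rw [← hβ, h]; group)).symm
  have ea : ∀ a : A, β ⟨a, le_normalizer a.2⟩ = f a := fun a => un _ _ fun b => by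
    rw [← map_inv, ← map_mul, ← map_mul]; rfl
  have ea' : ∀ a : A, (if h : (a : G) ∈ 𝐍(A) then β ⟨a, h⟩ else 1) = f a := fun a => by
    rw [dif_pos (le_normalizer a.2), ea]
  refine ⟨fun g => if h : g ∈ 𝐍(A) then β ⟨g, h⟩ else 1, ⟨fun g hg k hk => ?_, fun a ha => ?_,
    fun j hj => ?_, fun g hg => ?_, fun a ha h => ?_, hp⟩, ea'⟩
  · rw [dif_pos hg, dif_pos hk, dif_pos (mul_mem hg hk)]
    refine un (⟨g, hg⟩ * ⟨k, hk⟩) _ fun a => ?_
    rw [map_mul, MulAut.mul_apply, hβ, hβ]; group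
  · exact ea' ⟨a, ha⟩ ▸ hm _
  · obtain ⟨a, rfl⟩ := ho j hj
    exact ⟨a, a.2, ea' a⟩
  · rw [dif_pos hg]
    refine ⟨fun h => mem_cent_of_perf hp hg fun a ha => ?_, fun h => un _ _ fun a => ?_⟩
    · refine (hk ((⟨a, ha⟩ : A)⁻¹ * A.normalizerMonoidHom ⟨g, hg⟩ ⟨a, ha⟩) ?_).1
      rw [map_mul, hβ, h]; simp
    · rw [one_mul, inv_one, mul_one]; congr 1
      exact Subtype.ext (conj_eq_of_mem_centralizer h a.2)
  · exact (hk ⟨a, ha⟩ ((ea' ⟨a, ha⟩).symm.trans h)).2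

namespace W0
variable {F : Fx X} {t : G} {L O : Subgroup G} {α : G → X} (w : W0 F t L O α)
include w

theorem ti : t⁻¹ = t := inv_eq_of_mul_eq_one_left w.t2
theorem Lt {a : G} (ha : a ∈ L) : a * t = t * a := w.tL a ha
theorem tN : t ∈ 𝐍(L) := w.CN t rfl
theorem at1 : α t = 1 := w.cov.cen w.tL
theorem tO : t ∉ O := fun h => w.t1 ((P2.of_sq w.t2).eq_one (w.oddO t h))
theorem LO {a o : G} (ha : a ∈ L) (ho : o ∈ O) : a * o = o * a := w.OL ho a ha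

theorem memO {k : G} (hk : k ∈ 𝐂(L)) (c : k * t = t * k) (o : Odd (orderOf k)) : k ∈ O := by
  refine (w.ker2 k hk c).elim id fun h => absurd ?_ w.t1
  exact (P2.of_sq w.t2).eq_one (Odd.of_dvd_nat (o.mul (w.oddO _ h)) (by
    have e : t = k⁻¹ * (k * t) := by group
    conv_lhs => rw [e]
    rw [← orderOf_inv k]
    exact Commute.orderOf_mul_dvd_mul_orderOf (Commute.inv_left (Commute.mul_right rfl c))))

theorem ZO {a : G} (ha : a ∈ L) (h : α a = 1) : a ∈ O :=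
  w.memO ((w.cov.ker a (le_normalizer ha)).1 h) (w.Lt ha) (w.cov.odd a ha h)

theorem cjO {g o : G} (c : g * t = t * g) (ho : o ∈ O) : g * o * g⁻¹ ∈ O :=
  w.memO (conj_mem_of_mem_normalizer (normalizer_le_normalizer_centralizer L (w.CN g c)) (w.OL ho))
    (((Commute.mul_left c (w.Ot o ho)).mul_left (Commute.inv_left c) :))
    (by rw [H9.orderOf_conj]; exact w.oddO o ho)

/-- `2`-elements of the kernel -/
theorem ker_P2 {k : G} (hk : k ∈ 𝐂(L)) (c : k * t = t * k) (h : P2 k) : k = 1 ∨ k = t :=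
  (w.ker2 k hk c).imp (fun e => h.eq_one (w.oddO k e)) fun e => by
    have := (h.mul (P2.of_sq w.t2) c).eq_one (w.oddO _ e)
    rw [eq_inv_of_mul_eq_one_left this, w.ti]

/-- elements of `C(t)` over `α a` -/
theorem ovr {g a : G} (c : g * t = t * g) (ha : a ∈ L) (e : α a = α g) :
    ∃ o ∈ O, g = a * o ∨ g = a * t * o := by
  have h := w.cov.inv_mul_mem (le_normalizer ha) (w.CN g c) e
  rcases w.ker2 _ h ((Commute.inv_left (w.Lt ha)).mul_left c :) with h | h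
  · exact ⟨_, h, Or.inl (by group)⟩
  · refine ⟨_, h, Or.inr ?_⟩
    rw [mul_assoc a, ← w.Ot _ h, mul_assoc (a⁻¹ * g), w.t2]; group

theorem over2 {g a : G} (c : g * t = t * g) (g2 : P2 g) (ha : a ∈ L) (a2 : P2 a) (e : α a = α g) :
    g = a ∨ g = a * t := by
  obtain ⟨o, ho, rfl | rfl⟩ := w.ovr c ha e
  · rw [a2.odd_eq_one g2 (w.LO ha ho) (w.oddO o ho), mul_one]; exact Or.inl rfl
  · rw [(a2.mul (P2.of_sq w.t2) (w.Lt ha)).odd_eq_one g2
      ((Commute.mul_left (w.LO ha ho) (w.Ot o ho).symm :)) (w.oddO o ho), mul_one]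
    exact Or.inr rfl

theorem t_not : t ∉ L ⊔ O := fun h => by
  obtain ⟨a, ha, o, ho, e⟩ := (mem_sup_comm fun a ha o ho => w.LO ha ho).1 h
  refine w.tO (e ▸ mul_mem (w.ZO ha ?_) ho)
  rw [← w.cov.mul_cen (le_normalizer ha) (w.OL ho), ← e, w.at1]

theorem tL' : t ∉ L := fun h => w.t_not (mem_sup_left h)

theorem odd_mem {g : G} (c : g * t = t * g) {n : ℕ} (hn : Odd n) (h : g ^ n ∈ L ⊔ O) : g ∈ L ⊔ O := by
  have hj : α g ∈ F.J := F.mem_of_odd_pow hn (by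
    obtain ⟨a, ha, o, ho, e⟩ := (mem_sup_comm fun a ha o ho => w.LO ha ho).1 h
    rw [← w.cov.pow (w.CN g c), e, w.cov.mul_cen (le_normalizer ha) (w.OL ho)]
    exact w.cov.mem a ha)
  obtain ⟨a, ha, e⟩ := w.cov.onto _ hj
  obtain ⟨o, ho, rfl | rfl⟩ := w.ovr c ha e
  · exact mul_mem_sup ha ho
  · rw [mul_assoc, ← w.Ot o ho, ← mul_assoc, Commute.mul_pow (Commute.mul_left (w.Lt ha) (w.Ot o ho)),
      pow_odd_of_sq w.t2 hn] at h
    exact absurd ((mul_mem_cancel_left (pow_mem (mul_mem_sup ha ho) n)).1 h) w.t_not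

/-- no conjugate of `t` lies in `L` -/
theorem not_conj [Finite G] [Finite X] (g : G) : g * t * g⁻¹ ∉ L := fun hg => by
  have a2 := cjsq w.t2 g
  obtain ⟨j, hj, e⟩ := F.inv (w.cov.mem _ hg) (w.cov.sq (le_normalizer hg) a2)
    fun e => cjne w.t1 g (w.cov.eq_one hg (P2.of_sq a2) e)
  obtain ⟨l, hl, rfl⟩ := w.cov.onto j hj
  obtain ⟨k, hk, e⟩ : ∃ k, k * t * k⁻¹ ∈ L ∧ α (k * t * k⁻¹) = F.z := by
    have e1 : l⁻¹ * g * t * (l⁻¹ * g)⁻¹ = l⁻¹ * (g * t * g⁻¹) * l⁻¹⁻¹ := by group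
    refine ⟨l⁻¹ * g, e1 ▸ mul_mem (mul_mem (inv_mem hl) hg) (inv_mem (inv_mem hl)), ?_⟩
    rw [e1, w.cov.conj (le_normalizer (inv_mem hl)) (le_normalizer hg), ← e,
      w.cov.inv (le_normalizer hl)]; group
  have k2 := P2.of_sq (cjsq w.t2 k)
  obtain ⟨d, hd, ed⟩ := w.cov.of_closure (D := L ⊓ (L ⊔ O) ^ᶜ k) (inf_le_left.trans le_normalizer)
    (fun x hx => by
      obtain ⟨a, ha, rfl, K, hK⟩ := w.cov.liftp (by norm_num : Nat.Prime 7) (k := 1) hx.1 hx.2.2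
      have c := w.cov.comm_lift (le_normalizer ha) hk k2 (e ▸ hx.2.1)
      refine ⟨a, ⟨ha, mem_cj.2 (w.odd_mem ?_ (n := 7 ^ K) (Odd.pow (by decide)) ?_)⟩, rfl⟩
      · calc _ = k⁻¹ * (a * (k * t * k⁻¹)) * k := by group
          _ = _ := by rw [c]; group
      · rw [show k⁻¹ * a * k = k⁻¹ * a * k⁻¹⁻¹ by rw [inv_inv], conj_pow, hK]; simp)
    (F.f1 _ F.zJ rfl)
  obtain ⟨m, hm, m2⟩ := exists_odd_P2 d
  have := w.cov.uniq (pow_mem hd.1 m) hk m2 k2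
    (by rw [w.cov.pow (le_normalizer hd.1), ed, e, pow_odd_of_sq F.z2 hm])
  exact w.t_not (cj_mem_iff.1 (this ▸ pow_mem hd.2 m))

end W0

theorem eqns_Cov : True := by
  have := @Cov.hom.eq_1.{0}
  have := @Cov.im.eq_1.{0}
  have := @Cov.pre.eq_1.{0}
  trivial

end H36.SW
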