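import Mathlib
import Cfsg.Agent.Lib.StdW.Cov
import Cfsg.Agent.Lib.Comp.FStar
import Cfsg.Agent.Lib.SE42.Basic
import Cfsg.Agent.S0205
import Cfsg.Agent.S1911
import Cfsg.Agent.S1347

/-! Standard subgroups of type `M23` or `McL`: the centraliser of the standard subgroup has Sylow
`2`-subgroups of order two, and its involution is fused to a diagonal involution. -/

set_option autoImplicit false

namespace H36.SW

open Subgroup H69
open scoped commutatorElement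

namespace A

variable {X : Type} [Group X] {G : Type*} [Group G]

/-- What is used of "standard". -/
structure St (L : Subgroup G) : Prop where
  T : ∀ g i : G, i ∈ 𝐂(L) → P2 i → i ≠ 1 → g * i * g⁻¹ ∈ 𝐂(L) → g ∈ 𝐍(L)
  S : ∀ g : G, ¬ L ≤ 𝐂(L ^ᶜ g)
  ev : ∃ k ∈ 𝐂(L), k * k = 1 ∧ k ≠ 1

theorem St.of [Finite G] {L : Subgroup G} (hL : Cfsg.IsStandardSubgroup L) : St L := by
  obtain ⟨hq, ⟨hev, hT⟩, hS, hN⟩ := hL
  refine ⟨fun g i hi i2 i1 hg => ?_, fun g h => ?_, ?_⟩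
  · by_contra hn
    rw [hN] at hn
    have h1 : g * i * g⁻¹ ∈ 𝐂(L) ⊓ 𝐂(L) ^ᶜ g := ⟨hg, cj_mem g hi⟩
    exact cjne i1 g ((i2.conj g).eq_one (Odd.of_dvd_nat (hT g hn) (orderOf_dvd_natCard _ h1)))
  · by_cases e : L ^ᶜ g = L
    · rw [e] at h
      exact H23.IsQuasisimple.not_le_centralizer hq h
    · exact hS g e (commutator_eq_bot_of_le_centralizer h)
  · obtain ⟨k, hk, k2⟩ := (H9.even_card_iff_exists_involution _).1 hev
    exact ⟨k, hk, H9.mul_self_of_orderOf_two k2, H9.ne_one_of_orderOf_two k2⟩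

theorem St.T' {L : Subgroup G} (h : St L) (g : G) {x i : G} (hi : i ∈ 𝐂(L ^ᶜ g)) (i2 : P2 i)
    (i1 : i ≠ 1) (hx : x * i * x⁻¹ ∈ 𝐂(L ^ᶜ g)) : x ∈ 𝐍(L ^ᶜ g) := by
  rw [← cj_centralizer, mem_cj] at hi hx
  rw [← cj_normalizer, mem_cj]
  refine h.T _ _ hi (by simpa using i2.conj g⁻¹) (cjne' i1 g) ?_
  rwa [show g⁻¹ * x * g * (g⁻¹ * i * g) * (g⁻¹ * x * g)⁻¹ = g⁻¹ * (x * i * x⁻¹) * g by group]

theorem St.two {L : Subgroup G} (h : St L) {g i : G} (hg : g ∉ 𝐍(L)) (hi : i ∈ 𝐂(L))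
    (hi' : i ∈ 𝐂(L ^ᶜ g)) (i2 : P2 i) : i = 1 := by
  by_contra i1
  rw [← cj_centralizer, mem_cj] at hi'
  exact hg (by simpa using inv_mem (h.T g⁻¹ i hi i2 i1 (by rwa [inv_inv])))

/-- every nontrivial normal subgroup contains the simple `F*(G)` -/
theorem le_of_normal [Finite G] (hF : IsSimpleGroup (Cfsg.generalizedFittingSubgroup G))
    {M : Subgroup G} (hM : M.Normal) (h : M ≠ ⊥) : Cfsg.generalizedFittingSubgroup G ≤ M := by
  rcases (hM.subgroupOf (Cfsg.generalizedFittingSubgroup G)).eq_bot_or_eq_top with e | e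
  · refine absurd ?_ (H23.fStar_inf_ne_bot_of_isSubnormal hM.isSubnormal h)
    rw [subgroupOf_eq_bot, disjoint_iff, inf_comm] at e
    exact e
  · exact subgroupOf_eq_top.1 e

theorem le_fStar [Finite G] (hF : IsSimpleGroup (Cfsg.generalizedFittingSubgroup G))
    (hF' : ¬ IsMulCommutative (Cfsg.generalizedFittingSubgroup G)) {L : Subgroup G}
    (hL : Cfsg.IsStandardSubgroup L) : L ≤ Cfsg.generalizedFittingSubgroup G := by
  obtain ⟨k, hk, k2, k1⟩ := (St.of hL).ev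
  have hO : Cfsg.oddCore G = ⊥ := by
    by_contra h
    have h1 := le_of_normal hF inferInstance h
    have h2 := Cfsg.Agent.S0205.result (Odd.of_dvd_nat H1.odd_card_oddCore (card_dvd_of_le h1))
    exact hF' ⟨⟨IsSimpleGroup.comm_iff_isSolvable.2 h2⟩⟩
  rcases Cfsg.Agent.S1347.result L hL hO k (H9.orderOf_eq_two_of_mul_self k1 k2) hk with
    h | ⟨Y, hY, -, -, c, hi, hs, -⟩ | h
  · have h1 := le_of_normal hF h (H23.IsQuasisimple.ne_bot hL.1)
    have h2 := le_of_normal hF (M := 𝐂(L)) inferInstance fun e => k1 (by rwa [e, mem_bot] at hk)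
    exact absurd ⟨⟨fun a b => Subtype.ext (h2 b.2 a (h1 a.2))⟩⟩ hF'
  · exfalso
    have Y1 : Y ≠ ⊥ := fun e => by
      have := hY.toNontrivial
      rw [e] at this
      exact not_subsingleton _ (inferInstance : Subsingleton (⊥ : Subgroup G))
    have YF : Y ≤ Cfsg.generalizedFittingSubgroup G := le_sup_left.trans (hs.le.trans H23.layer_le_fStar)
    have h1 : Cfsg.generalizedFittingSubgroup G ≤ Y ⊔ Y ^ᶜ k :=
      hs ▸ le_of_normal hF inferInstance fun e => Y1 (le_bot_iff.1 (le_sup_left.trans (hs.trans e).le))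
    have h2 : Cfsg.generalizedFittingSubgroup G ≤ 𝐍(Y) :=
      h1.trans (sup_le le_normalizer (le_normalizer_of_le_centralizer fun b hb a ha => c a ha b hb))
    rcases ((normal_subgroupOf_iff_le_normalizer YF).2 h2).eq_bot_or_eq_top with e | e
    · rw [subgroupOf_eq_bot, disjoint_iff, inf_eq_left.2 YF] at e
      exact Y1 e
    · have h3 : Y ^ᶜ k ≤ Y := le_sup_right.trans (hs.le.trans (H23.layer_le_fStar.trans (subgroupOf_eq_top.1 e)))
      rw [inf_eq_right.2 h3] at hi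
      exact Y1 (cj_eq_bot_iff.1 hi)
  · exact h.1.trans H23.layer_le_fStar

/-- a conjugate of an involution of `C(L)` by an element outside `N(L)` normalises `L` -/
structure Bad (L : Subgroup G) (g k : G) : Prop where
  gN : g ∉ 𝐍(L)
  kK : k ∈ 𝐂(L)
  k2 : k * k = 1
  k1 : k ≠ 1
  sN : g * k * g⁻¹ ∈ 𝐍(L)

variable {F : Fx X} {L : Subgroup G} {α : G → X}

theorem step0 [Finite G] (hF : IsSimpleGroup (Cfsg.generalizedFittingSubgroup G))
    (hL : Cfsg.IsStandardSubgroup L) (h0 : L ≤ Cfsg.generalizedFittingSubgroup G) (c : Cov F.J L α) :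
    ∃ g k, Bad L g k := by
  have st := St.of hL
  obtain ⟨k, hk, k2, k1⟩ := st.ev
  have K1 : 𝐂(L) ≠ ⊥ := fun e => k1 (by rwa [e, mem_bot] at hk)
  by_contra hb
  rcases Cfsg.Agent.S1911.result 𝐂(L) hL.2.1 (fun g hg => (H9.odd_card_iff_forall_orderOf_ne_two _).2
      fun s hs s2 => hb (by
        obtain ⟨i, hi, rfl⟩ := mem_cj'.1 hs.1
        rw [H9.orderOf_conj] at s2
        rw [← hL.2.2.2] at hg hs
        exact ⟨g, i, hg, hi, H9.mul_self_of_orderOf_two s2, H9.ne_one_of_orderOf_two s2, hs.2⟩)) with h | h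
  · exact st.S 1 (by rw [cj_one]; exact h0.trans (le_of_normal hF h K1))
  · have KY : 𝐂(L) ≤ normalClosure (𝐂(L) : Set G) := le_normalClosure
    have LY := h0.trans (le_of_normal hF (M := normalClosure (𝐂(L) : Set G)) inferInstance
      fun e => K1 (le_bot_iff.1 (e ▸ KY)))
    obtain ⟨a, ha, ea, a2⟩ := c.lifti F.zJ F.z2
    obtain ⟨u, u2, hu⟩ := H42.SE.exists_involution_not_mem h
    obtain ⟨d, hd, -, e⟩ := H42.SE.exists_conj h (s := ⟨k, KY hk⟩) (t := ⟨a, LY ha⟩)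
      (H9.mul_self_of_orderOf_two u2) hu
      (H9.orderOf_eq_two_of_mul_self (fun e => k1 (congrArg Subtype.val e)) (Subtype.ext k2))
      (le_normalizer hk)
      (H9.orderOf_eq_two_of_mul_self (fun e => F.z1 (by
        rw [← ea, show a = 1 from congrArg Subtype.val e, c.one])) (Subtype.ext a2))
      (normalizer_le_normalizer_centralizer L (le_normalizer ha))
    have h1 : a ∈ 𝐂(L) := by
      rw [← show (d : G) * k * (d : G)⁻¹ = a from congrArg Subtype.val e]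
      exact conj_mem_of_mem_normalizer hd.1 hk
    exact F.z1 (by rw [← ea, c.cen h1])

theorem step1 [Finite G] (st : St L) (c : Cov F.J L α) {g k : G} (b : Bad L g k) :
    ∃ g k, Bad L g k ∧ α (g * k * g⁻¹) ∈ F.J := by
  by_cases hJ : α (g * k * g⁻¹) ∈ F.J
  · exact ⟨g, k, b, hJ⟩
  obtain ⟨s, hs⟩ : ∃ s, s = g * k * g⁻¹ := ⟨_, rfl⟩
  have sN : s ∈ 𝐍(L) := hs ▸ b.sN
  have s2 : s * s = 1 := hs ▸ cjsq b.k2 g
  rw [← hs] at hJ
  obtain ⟨p, hp, q, hq, -, -, px, qx, n1, n4, j, hj, e⟩ := F.out _ hJ (c.sq sN s2)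
  obtain ⟨w, hw, ew, w2⟩ := c.lift2 (mul_mem hp hq) (P2.of_four n4)
  obtain ⟨l, hl, rfl⟩ := c.onto j hj
  have sw : Commute s w := c.comm_lift sN hw w2 (ew ▸ (Commute.mul_left px qx).symm)
  rw [← ew] at n1 n4 e
  have w4 : w ^ 2 * w ^ 2 = 1 := by rw [← pow_add]; exact c.pow_eq_one hw w2 n4
  have yL : w ^ 2 ∈ L := pow_mem hw 2
  have v2 : s * w ^ 2 * (s * w ^ 2) = 1 := by
    rw [(sw.pow_right 2).symm.mul_mul_mul_comm, s2, w4, one_mul]
  have vN : s * w ^ 2 ∈ 𝐍(L) := mul_mem sN (le_normalizer yL)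
  have ho : Odd (orderOf (l * s * l⁻¹ * (s * w ^ 2))) := by
    refine c.odd _ ?_ ?_
    · rw [show l * s * l⁻¹ * (s * w ^ 2) = l * (s * l⁻¹ * s⁻¹) * (s * s) * w ^ 2 by group, s2, mul_one]
      exact mul_mem (mul_mem hl (conj_mem_of_mem_normalizer sN (inv_mem hl))) yL
    · rw [c.mul _ (mul_mem (mul_mem (le_normalizer hl) sN) (inv_mem (le_normalizer hl))) _ vN,
        c.conj (le_normalizer hl) sN, e, ← c.pow (le_normalizer hw), ← c.mul _ sN _ (le_normalizer yL)]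
      exact c.sq vN v2
  obtain ⟨d, hd⟩ := isConj_iff.1 (H9.isConj_of_odd (cjsq s2 l) v2 ho)
  obtain ⟨x, hx⟩ : ∃ x, x * k * x⁻¹ = k * (g⁻¹ * w * g) ^ 2 := ⟨g⁻¹ * d * l * g, by
    calc _ = g⁻¹ * (d * (l * (g * k * g⁻¹) * l⁻¹) * d⁻¹) * g := by group
      _ = _ := by rw [← hs, hd, hs, pow_two, pow_two]; group⟩
  have e2 : g * (g⁻¹ * w * g) ^ 2 * g⁻¹ = w ^ 2 := by rw [pow_two, pow_two]; group
  by_cases xN : x ∈ 𝐍(L)
  · refine ⟨g, (g⁻¹ * w * g) ^ 2, ⟨b.gN, ?_, ?_, fun e1 => n1 ?_, e2 ▸ le_normalizer yL⟩,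
      e2 ▸ c.mem _ yL⟩
    · have := conj_mem_of_mem_normalizer (normalizer_le_normalizer_centralizer L xN) b.kK
      rw [hx] at this
      exact (mul_mem_cancel_left b.kK).1 this
    · have := cjsq w4 g⁻¹
      rwa [← conj_pow, inv_inv] at this
    · rw [← c.pow (le_normalizer hw), ← e2, e1, mul_one, mul_inv_cancel, c.one]
  · have wN : g⁻¹ * w * g ∈ 𝐍(L) := st.T _ k b.kK (P2.of_sq b.k2) b.k1 (by
      rw [show g⁻¹ * w * g * k * (g⁻¹ * w * g)⁻¹ = g⁻¹ * (w * (g * k * g⁻¹) * w⁻¹) * g by group, ← hs,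
        ← sw.eq, mul_inv_cancel_right, hs]
      simpa [mul_assoc] using b.kK)
    refine ⟨x, k, ⟨xN, b.kK, b.k2, b.k1,
      hx ▸ mul_mem (centralizer_le_normalizer _ b.kK) (pow_mem wN 2)⟩, ?_⟩
    rw [hx, c.cen_mul (pow_mem wN 2) b.kK, c.pow wN, pow_two]
    exact F.sq2 _

theorem step2 [Finite G] [Finite X] (st : St L) (c : Cov F.J L α) {g k : G} (b : Bad L g k)
    (hJ : α (g * k * g⁻¹) ∈ F.J) : ∃ g k, Bad L g k ∧ α (g * k * g⁻¹) = F.z := by
  obtain ⟨j, hj, e⟩ := F.inv hJ (c.sq b.sN (cjsq b.k2 g))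
    fun e => b.gN (st.T g k b.kK (P2.of_sq b.k2) b.k1 ((c.ker _ b.sN).1 e))
  obtain ⟨l, hl, rfl⟩ := c.onto j hj
  have lN := le_normalizer hl
  have e1 : l⁻¹ * g * k * (l⁻¹ * g)⁻¹ = l⁻¹ * (g * k * g⁻¹) * l⁻¹⁻¹ := by group
  refine ⟨l⁻¹ * g, k, ⟨fun h => b.gN ((mul_mem_cancel_left (inv_mem lN)).1 h), b.kK, b.k2, b.k1,
    e1 ▸ mul_mem (mul_mem (inv_mem lN) b.sN) (inv_mem (inv_mem lN))⟩, ?_⟩
  rw [e1, c.conj (inv_mem lN) b.sN, ← e, c.inv lN]; group

theorem exists_pow_prime {p : ℕ} : ∀ (K : ℕ) (y : X), y ^ p ^ K = 1 → y ≠ 1 →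
    ∃ m : ℕ, y ^ m ≠ 1 ∧ (y ^ m) ^ p = 1
  | 0, y, h, h1 => absurd (by simpa using h) h1
  | K + 1, y, h, h1 => by
    by_cases e : y ^ p = 1
    · exact ⟨1, by rwa [pow_one], by rwa [pow_one]⟩
    · obtain ⟨m, h2, h3⟩ := exists_pow_prime K (y ^ p) (by rwa [← pow_mul, ← pow_succ']) e
      exact ⟨p * m, by rwa [pow_mul], by rwa [pow_mul]⟩

/-- no subgroup of order four in `C(L) ∩ C(s)` -/
theorem no4 [Finite G] (st : St L) (c : Cov F.J L α) {g k a k1 : G} (b : Bad L g k) (ha : a ∈ L)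
    (a2 : a * a = 1) (ea : α a = F.z) (hk1 : k1 ∈ 𝐂(L)) (es : g * k * g⁻¹ = a * k1) {u v : G}
    (hu : u ∈ 𝐂(L)) (hv : v ∈ 𝐂(L)) (uk : u * k1 = k1 * u) (vk : v * k1 = k1 * v) (uv : u * v = v * u)
    (u4 : u ^ 4 = 1) (v4 : v ^ 4 = 1) (u1 : u ≠ 1) (v1 : v ≠ 1) : u = v := by
  by_contra ne
  obtain ⟨β, c'⟩ : ∃ β : G → X, Cov F.J (L ^ᶜ g) β := ⟨_, c.cj g⟩
  have A2 := P2.of_sq a2
  have a1 : α a ≠ 1 := ea ▸ F.z1
  have sK : g * k * g⁻¹ ∈ 𝐂(L ^ᶜ g) := cj_centralizer L g ▸ cj_mem g b.kK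
  have CN : ∀ x, x * a = a * x → x * k1 = k1 * x → x ∈ 𝐍(L ^ᶜ g) := fun x h1 h2 =>
    st.T' g sK ((P2.of_sq b.k2).conj g) (cjne b.k1 g) (by
      rw [es, (Commute.mul_right h1 h2).eq, mul_inv_cancel_right, ← es]; exact sK)
  have uN := CN u (hu a ha).symm uk
  have vN := CN v (hv a ha).symm vk
  have h7 : ∀ x ∈ L, x * a = a * x → ∀ K : ℕ, x ^ 7 ^ K = 1 → x ∈ 𝐂(L ^ᶜ g) := fun x hx xa K hK => by
    have xN := CN x xa (hk1 x hx)
    refine (c'.ker x xN).1 (by_contra fun x1 => ne ?_)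
    obtain ⟨m, m1, m7⟩ := exists_pow_prime K (β x) (by rw [← c'.pow xN, hK, c'.one]) x1
    have := F.c7 _ m1 m7 (β u) (β v) (Commute.pow_right (c'.comm uN xN (hu x hx).symm) m)
      (Commute.pow_right (c'.comm vN xN (hv x hx).symm) m) (by rw [← c'.pow uN, u4, c'.one])
      (by rw [← c'.pow vN, v4, c'.one])
      (fun e => u1 (st.two b.gN hu ((c'.ker u uN).1 e) (P2.of_four u4)))
      fun e => v1 (st.two b.gN hv ((c'.ker v vN).1 e) (P2.of_four v4))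
    exact inv_mul_eq_one.1 (st.two b.gN (mul_mem (inv_mem hu) hv) (c'.inv_mul_mem uN vN this)
      ((P2.of_four u4).inv.mul (P2.of_four v4) (Commute.inv_left uv)))
  have h2 : ∀ x ∈ L, x * x = 1 → α x * F.z = F.z * α x → x ∈ 𝐂(L ^ᶜ g) := fun x hx x2 xz => by
    obtain ⟨d, hd, ed⟩ := c.of_closure (D := L ⊓ 𝐂(L ^ᶜ g)) (inf_le_left.trans le_normalizer)
      (fun y hy => by
        obtain ⟨n, hn, rfl, K, hK⟩ := c.liftp (by norm_num : Nat.Prime 7) (k := 1) hy.1 hy.2.2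
        exact ⟨n, ⟨hn, h7 n hn (c.comm_lift (le_normalizer hn) ha A2 (ea ▸ hy.2.1)) K hK⟩, rfl⟩)
      (F.f1 _ (c.mem x hx) xz)
    obtain ⟨m, hm, m2⟩ := exists_odd_P2 d
    have := c.uniq (pow_mem hd.1 m) hx m2 (P2.of_sq x2)
      (by rw [c.pow (le_normalizer hd.1), ed, pow_odd_of_sq (c.sq (le_normalizer hx) x2) hm])
    exact this ▸ pow_mem hd.2 m
  have aK := h2 a ha a2 (by rw [ea])
  have LN : L ≤ 𝐍(L ^ᶜ g) := (c.gen (D := L ⊓ 𝐍(L ^ᶜ g)) inf_le_left fun j hj =>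
    c.of_closure (inf_le_left.trans le_normalizer) (fun y hy => by
      obtain ⟨l, hl, rfl⟩ := c.onto y hy.1
      exact ⟨l, ⟨hl, st.T' g aK A2 (fun e => a1 (e ▸ c.one)) (h2 _ (mul_mem (mul_mem hl ha) (inv_mem hl))
        (cjsq a2 l) (by rw [c.conj (le_normalizer hl) (le_normalizer ha), ea]; exact hy.2))⟩, rfl⟩)
      (F.f2 hj)).trans inf_le_right
  exact st.S g ((c.le_of_normal F.simple (M := L ⊓ 𝐂(L ^ᶜ g)) inf_le_left
    (le_normalizer_inf le_normalizer (le_normalizer_centralizer LN)) ⟨ha, aK⟩ a1).trans inf_le_right)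

/-- the Sylow `2`-subgroups of `K` have order two -/
theorem syl2 [Finite G] {K : Subgroup G} {k k1 : G} (hk : k ∈ K) (k2 : k * k = 1) (kne : k ≠ 1)
    (hk1 : k1 ∈ K) (k12 : k1 * k1 = 1)
    (h : ∀ u ∈ K, ∀ v ∈ K, u * k1 = k1 * u → v * k1 = k1 * v → u * v = v * u → u ^ 4 = 1 → v ^ 4 = 1 →
      u ≠ 1 → v ≠ 1 → u = v) {t : G} (ht : t ∈ K) (t2 : t * t = 1) (t1 : t ≠ 1) :
    IsSylowIn 2 (zpowers t) K := by
  have four : ∀ {x : G}, x * x = 1 → x ^ 4 = 1 := fun {x} e => by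
    rw [show 4 = 2 * 2 from rfl, pow_mul, pow_two x, e, one_pow]
  obtain ⟨S, hS, h1⟩ := exists_isSylowIn_le (P2.of_sq k12).zpowers (zpowers_le.2 hk1)
  have k1S : k1 ∈ S := h1 (mem_zpowers k1)
  have S1 : S ≠ ⊥ := hS.dvd_card_iff.1 (by
    rw [← H9.orderOf_eq_two_of_mul_self kne k2]; exact orderOf_dvd_natCard K hk)
  obtain ⟨u, hu, u2⟩ := H9.exists_involution_of_isPGroup (hS.isP.to_le inf_le_left) (center_ne_bot hS.isP S1)
  have u1 := H9.ne_one_of_orderOf_two u2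
  replace u2 := H9.mul_self_of_orderOf_two u2
  have uk : u * k1 = k1 * u := (hu.2 k1 k1S).symm
  have ck : ∀ x ∈ S, x * k1 = k1 * x := fun x hx => by
    by_cases e : k1 = 1
    · rw [e, mul_one, one_mul]
    · rw [h k1 hk1 u (hS.le hu.1) rfl uk uk.symm (four k12) (four u2) e u1]
      exact hu.2 x hx
  have key : ∀ (n : ℕ), ∀ x ∈ S, x ^ 2 ^ n = 1 → x = 1 ∨ x = u := fun n => by
    induction n with
    | zero => exact fun x _ e => Or.inl (by simpa using e)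
    | succ n ih =>
      intro x hx e
      have x4 : x ^ 4 = 1 := by
        rw [show 4 = 2 * 2 from rfl, pow_mul]
        rcases ih (x ^ 2) (pow_mem hx 2) (by rwa [← pow_mul, ← pow_succ']) with e | e <;> rw [e]
        · exact one_pow _
        · rw [pow_two, u2]
      exact or_iff_not_imp_left.2 fun x1 =>
        h x (hS.le hx) u (hS.le hu.1) (ck x hx) uk (hu.2 x hx) x4 (four u2) x1 u1
  refine hS.of_card_le (P2.of_sq t2).zpowers (zpowers_le.2 ht) ?_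
  rw [card_zp t2 t1, ← card_zp u2 u1]
  exact card_le_of_le fun x hx => let ⟨n, hn⟩ := P2.of_mem hS.isP hx; (mem_zp u2).2 (key n x hx hn)

/-- Burnside: a central Sylow `2`-subgroup of order two has a normal complement -/
theorem exists_O [Finite G] {C : Subgroup G} {t : G} (t2 : t * t = 1)
    (hS : IsSylowIn 2 (zpowers t) C) (hc : ∀ k ∈ C, k * t = t * k) :
    ∃ O ≤ C, (∀ o ∈ O, Odd (orderOf o)) ∧ ∀ k ∈ C, k ∈ O ∨ k * t ∈ O := by
  obtain ⟨P, hP⟩ := hS.exists_sylow_subgroupOf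
  have mp : ∀ x ∈ (P : Subgroup C), (x : G) = 1 ∨ (x : G) = t := fun x hx => by
    rw [hP, mem_subgroupOf] at hx; exact (mem_zp t2).1 hx
  have hN : normalizer ((P : Subgroup C) : Set C) ≤ centralizer ((P : Subgroup C) : Set C) :=
    fun g _ x hx => Subtype.ext (by
      rcases mp x hx with e | e <;> rw [coe_mul, coe_mul, e]
      · rw [mul_one, one_mul]
      · exact (hc g g.2).symm)
  refine ⟨(MonoidHom.transferSylow P hN).ker.map C.subtype, map_subtype_le _, ?_, fun k hk => ?_⟩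
  · intro o ho
    refine Odd.of_dvd_nat ?_ (orderOf_dvd_natCard _ ho)
    rw [card_map_subtype, ← Nat.not_even_iff_odd, even_iff_two_dvd]
    exact MonoidHom.not_dvd_card_ker_transferSylow P hN
  · obtain ⟨⟨o, p⟩, e, -⟩ := (MonoidHom.ker_transferSylow_isComplement' P hN).existsUnique ⟨k, hk⟩
    have e1 : ((o : C) : G) * ((p : C) : G) = k := congrArg Subtype.val e
    have ho : ((o : C) : G) ∈ (MonoidHom.transferSylow P hN).ker.map C.subtype := ⟨o, o.2, rfl⟩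
    rcases mp p p.2 with e2 | e2 <;> rw [e2] at e1
    · exact Or.inl (by rwa [← e1, mul_one])
    · exact Or.inr (by rwa [← e1, mul_assoc, t2, mul_one])

theorem exists_W0 [Finite G] (st : St L) (c : Cov F.J L α) {t : G} (ht : t ∈ 𝐂(L)) (t2 : t * t = 1)
    (t1 : t ≠ 1) (hS : IsSylowIn 2 (zpowers t) 𝐂(L)) : ∃ O, W0 F t L O α := by
  obtain ⟨O, h1, h2, h3⟩ := exists_O (C := 𝐂(L) ⊓ centralizer {t}) t2
    (hS.mono (zpowers_le.2 ⟨ht, mem_centralizer_singleton_iff.2 rfl⟩) inf_le_left)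
    fun k hk => mem_centralizer_singleton_iff.1 hk.2
  exact ⟨O, c, t2, t1, ht,
    fun g e => st.T g t ht (P2.of_sq t2) t1 (by rwa [e, mul_inv_cancel_right]),
    h1.trans inf_le_left, fun o ho => mem_centralizer_singleton_iff.1 (h1 ho).2, h2,
    fun k hk e => h3 k ⟨hk, mem_centralizer_singleton_iff.2 e⟩⟩

end A

theorem cov_of_iso {X : Type} [Group X] [Finite X] {G : Type*} [Group G] [Finite G] (F : Fx X) {L : Subgroup G}
    (hL : Cfsg.IsQuasisimple L) (e : (L ⧸ Cfsg.oddCore L) ≃* F.J) : ∃ α : G → X, Cov F.J L α := by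
  have hz : Cfsg.oddCore L ≤ center L := by
    refine (H23.IsQuasisimple.normal_eq_top_or_le_center hL _).resolve_left fun h => F.z1 ?_
    obtain ⟨y, hy⟩ := e.surjective ⟨F.z, F.zJ⟩
    obtain ⟨a, rfl⟩ := QuotientGroup.mk_surjective y
    rw [(QuotientGroup.eq_one_iff a).2 (h ▸ mem_top a), map_one] at hy
    exact (congrArg Subtype.val hy).symm
  obtain ⟨α, c, -⟩ := exists_cov F (A := L)
    (F.J.subtype.comp (e.toMonoidHom.comp (QuotientGroup.mk' _))) (fun a => (e _).2)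
    (fun j hj => by
      obtain ⟨y, hy⟩ := e.surjective ⟨j, hj⟩
      obtain ⟨a, rfl⟩ := QuotientGroup.mk_surjective y
      exact ⟨a, congrArg Subtype.val hy⟩)
    (fun a ha => by
      have h1 : a ∈ Cfsg.oddCore L :=
        (QuotientGroup.eq_one_iff a).1 (e.map_eq_one_iff.1 (Subtype.ext ha))
      refine ⟨fun b hb => congrArg Subtype.val (mem_center_iff.1 (hz h1) ⟨b, hb⟩), ?_⟩
      rw [orderOf_coe]
      exact Odd.of_dvd_nat H1.odd_card_oddCore (orderOf_dvd_natCard _ h1))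
    (H23.IsQuasisimple.commutator_self hL).ge
  exact ⟨α, c⟩

theorem exists_W {X : Type} [Group X] [Finite X] {G : Type*} [Group G] [Finite G] (F : Fx X)
    (hF : IsSimpleGroup (Cfsg.generalizedFittingSubgroup G)) (hF' : ¬ IsMulCommutative (Cfsg.generalizedFittingSubgroup G))
    {L : Subgroup G} (hL : Cfsg.IsStandardSubgroup L) {α : G → X} (c : Cov F.J L α) :
    L ≤ Cfsg.generalizedFittingSubgroup G ∧ ∃ (t : G) (O : Subgroup G), W F t L O α := by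
  have h0 := A.le_fStar hF hF' hL
  have st := A.St.of hL
  refine ⟨h0, ?_⟩
  obtain ⟨g, k, b⟩ := A.step0 hF hL h0 c
  obtain ⟨g, k, b, hJ⟩ := A.step1 st c b
  obtain ⟨g, k, b, ez⟩ := A.step2 st c b hJ
  obtain ⟨a, ha, ea, a2⟩ := c.lifti F.zJ F.z2
  obtain ⟨k1, hk1, es⟩ : ∃ k1 ∈ 𝐂(L), g * k * g⁻¹ = a * k1 :=
    ⟨_, c.inv_mul_mem (le_normalizer ha) b.sN (ea.trans ez.symm), by group⟩
  have k12 : k1 * k1 = 1 := by
    have := cjsq b.k2 g
    rwa [es, Commute.mul_mul_mul_comm (hk1 a ha).symm, a2, one_mul] at this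
  have syl : ∀ {t : G}, t ∈ 𝐂(L) → t * t = 1 → t ≠ 1 → IsSylowIn 2 (zpowers t) 𝐂(L) :=
    A.syl2 b.kK b.k2 b.k1 hk1 k12 fun u hu v hv => A.no4 st c b ha a2 ea hk1 es hu hv
  have k11 : k1 ≠ 1 := fun e => by
    obtain ⟨O, w⟩ := A.exists_W0 st c b.kK b.k2 b.k1 (syl b.kK b.k2 b.k1)
    exact w.not_conj g (by rwa [es, e, mul_one])
  obtain ⟨O, w⟩ := A.exists_W0 st c hk1 k12 k11 (syl hk1 k12 k11)
  obtain ⟨d, -, e⟩ := (syl hk1 k12 k11).conj (syl b.kK b.k2 b.k1)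
  have e1 : d * k1 * d⁻¹ = k :=
    ((mem_zp b.k2).1 (e ▸ cj_mem d (mem_zpowers k1))).resolve_left (cjne k11 d)
  refine ⟨k1, O, w, g * d, a, ha, a2, ea, ?_⟩
  rw [← hk1 a ha, ← es, ← e1]; group

end H36.SW
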