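import Mathlib
import Cfsg.Agent.Lib.StdW.F2
import Cfsg.Agent.S1173

/-! End game of the wreath case, part 3: fusion in `T1 T2` and the final contradiction. -/

set_option autoImplicit false

namespace H43.SW

open Subgroup H69 H36.SW
open scoped commutatorElement

variable {X : Type} [Group X] {G : Type*} [Group G] [Finite G]

/-- Burnside: central elements of a Sylow subgroup are fused in its normaliser -/
theorem burn {T L : Subgroup G} (hT : IsSylowIn 2 T L) {x g : G} (hg : g ∈ L) (cx : ∀ a ∈ T, a * x = x * a)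
    (cy : ∀ a ∈ T, a * (g * x * g⁻¹) = g * x * g⁻¹ * a) :
    ∃ σ ∈ L, σ ∈ 𝐍(T) ∧ σ * x * σ⁻¹ = g * x * g⁻¹ := by
  have h1 : IsSylowIn 2 T (L ⊓ centralizer {g * x * g⁻¹}) :=
    hT.mono (le_inf hT.le fun a ha => mem_centralizer_singleton_iff.2 (cy a ha)) inf_le_left
  have h2 : IsSylowIn 2 (T ^ᶜ g) (L ⊓ centralizer {g * x * g⁻¹}) :=
    (hT.cj_of_mem hg).mono (le_inf (cj_le_of_mem hT.le hg) (by
      rw [← H69.cj_centralizer_singleton]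
      exact cj_mono g fun a ha => mem_centralizer_singleton_iff.2 (cx a ha))) inf_le_left
  obtain ⟨c, hc, h⟩ := h2.conj h1
  refine ⟨c * g, mul_mem hc.1 hg, cj_eq_self_iff.1 (by rw [← cj_cj, h]), ?_⟩
  calc _ = c * (g * x * g⁻¹) * c⁻¹ := by group
    _ = _ := by rw [mem_centralizer_singleton_iff.1 hc.2, mul_inv_cancel_right]

namespace E2
section
variable {J T : Subgroup X} (e : E2 J T G) (hS : IsSylowIn 2 (e.T1 ⊔ e.T2) e.G0)
include hS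

omit [Finite G] in
theorem sS' : IsSylowIn 2 (e.symm.T1 ⊔ e.symm.T2) e.symm.G0 := sup_comm e.T1 e.T2 ▸ hS

/-- weak closure of `T1` from the fusion of involutions -/
theorem wc (gen : T ≤ closure {a | a ∈ T ∧ a * a = 1})
    (fus : ∀ i ∈ e.T1, i * i = 1 → ∀ g ∈ e.G0, g * i * g⁻¹ ∈ e.T1 ⊔ e.T2 → g * i * g⁻¹ ∈ e.T1)
    {P : Subgroup G} (hP : IsPGroup 2 P) (PG : P ≤ e.G0) (h1 : e.T1 ≤ P) {g : G} (hg : g ∈ e.G0)
    (h2 : e.T1 ^ᶜ g ≤ P) : e.T1 ^ᶜ g = e.T1 := by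
  have le : closure {a | a ∈ e.T1 ∧ a * a = 1} ≤ e.T1 := (Subgroup.closure_le _).2 fun a ha => ha.1
  have gen1 : e.T1 ≤ closure {a | a ∈ e.T1 ∧ a * a = 1} := fun x hx => by
    obtain ⟨d, hd, k⟩ := e.c1.of_closure (D := closure {a | a ∈ e.T1 ∧ a * a = 1})
      (fun a ha => le_normalizer (e.T1A (le ha))) (fun y hy => by
        obtain ⟨a, ha, rfl⟩ := e.lift1 hy.1
        refine ⟨a, subset_closure ⟨ha, ?_⟩, rfl⟩
        rw [← pow_two]; exact e.c1.pow_eq_one (e.T1A ha) (e.PS (e.T1S ha)) (by rw [pow_two, hy.2]))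
      (gen ((e.m1 x).1 hx).2.2)
    rwa [← e.c1.uniq (e.T1A (le hd)) (e.T1A hx) (e.PS (e.T1S (le hd))) (e.PS (e.T1S hx)) k]
  have w : ∀ g ∈ e.G0, e.T1 ^ᶜ g ≤ e.T1 ⊔ e.T2 → e.T1 ^ᶜ g = e.T1 := fun g hg h =>
    cj_eq_of_cj_le (cj_le_iff.2 (gen1.trans ((Subgroup.closure_le _).2 fun a ha =>
      mem_cj.2 (by simpa using fus a ha.1 ha.2 g hg (h (cj_mem g ha.1))))))
  obtain ⟨k, hk, h⟩ := hS.exists_cj_le hP PG
  have k2 := w (k * g) (mul_mem hk hg) (cj_cj _ g k ▸ (cj_mono k h2).trans h)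
  rw [← cj_cj] at k2
  exact cj_inj.1 (k2.trans (w k hk ((cj_mono k h1).trans h)).symm)

/-- Step 6: `T1` is strongly closed. -/
theorem sc {z : G} (hz : z ∈ e.T2) (z1 : z ≠ 1) (z2 : z * z = 1) (cz : ∀ a ∈ e.T2, a * z = z * a)
    (cen : ∀ a ∈ e.T2, (∀ b ∈ e.T2, b * a = a * b) → a = 1 ∨ a = z)
    (inv : ∀ i ∈ e.T2, i * i = 1 → i ≠ 1 → ∃ b ∈ e.B, b * z * b⁻¹ = i)
    (wc2 : ∀ P : Subgroup G, IsPGroup 2 P → P ≤ e.G0 → e.T2 ≤ P → ∀ g ∈ e.G0, e.T2 ^ᶜ g ≤ P → e.T2 ^ᶜ g = e.T2) :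
    ∀ x ∈ e.T1, ∀ g ∈ e.G0, g * x * g⁻¹ ∈ e.T1 ⊔ e.T2 → g * x * g⁻¹ ∈ e.T1 := by
  have nG : ∀ g, g ∈ 𝐍(e.G0) := fun g => normal_iff_top_le_normalizer.1 e.n0 (mem_top g)
  have zT : z ∉ e.T1 := fun h => z1 (e.AB1 (e.T1A h) (e.T2B hz) (P2.of_sq z2))
  have AY : e.A ≤ e.G0 ⊓ 𝐂(e.T2) := fun a ha => ⟨e.le1 ha, fun b hb => (e.comm a ha b (e.T2B hb)).symm⟩
  have zY : z ∈ e.G0 ⊓ 𝐂(e.T2) := ⟨e.le2 (e.T2B hz), cz⟩
  have nz : z ∉ ⁅e.G0 ⊓ 𝐂(e.T2), e.G0 ⊓ 𝐂(e.T2)⁆ := by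
    have d : ∀ a ∈ (e.T1 ⊔ e.T2) ⊓ (e.G0 ⊓ 𝐂(e.T2)), a ∉ e.T1 → ∃ u ∈ e.T1, a = u * z := fun a ha n => by
      obtain ⟨u, hu, v, hv, rfl⟩ := e.dec.1 ha.1
      have : v ∈ 𝐂(e.T2) := (Subgroup.mul_mem_cancel_left _ (AY (e.T1A hu)).2).1 ha.2.2
      rcases cen v hv this with rfl | rfl
      exacts [absurd (by simpa using hu) n, ⟨u, hu, rfl⟩]
    refine not_mem_comm (hS.inf_of_le_normalizer inf_le_left (le_normalizer_inf (fun g _ => nG g)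
      (le_normalizer_centralizer (sup_le (le_normalizer_of_le_centralizer fun a ha => (AY (e.T1A ha)).2)
        le_normalizer)))) ⟨mem_sup_right hz, zY⟩ zT (fun a ha b hb na nb => ?_) zY
      (by rw [show 4 = 2 * 2 from rfl, pow_mul, pow_two z, z2, one_pow])
      (fun g hg => by rwa [conj_eq_of_mem_centralizer hg.2 hz])
      fun g _ _ => by rw [pow_two, z2, mul_one, mul_inv_cancel]; exact one_mem _
    obtain ⟨u, hu, rfl⟩ := d a ha na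
    obtain ⟨v, hv, rfl⟩ := d b hb nb
    rw [mul_assoc, ← mul_assoc z, ← e.cT hv hz, mul_assoc, z2, mul_one]; exact mul_mem hu hv
  have AY' : e.A ≤ ⁅e.G0 ⊓ 𝐂(e.T2), e.G0 ⊓ 𝐂(e.T2)⁆ := e.c1.perf.trans (commutator_mono AY AY)
  suffices h : ∀ k, ∀ x ∈ e.T1, x ^ 2 ^ k = 1 → ∀ g ∈ e.G0, g * x * g⁻¹ ∈ e.T1 ⊔ e.T2 → g * x * g⁻¹ ∈ e.T1 from
    fun x hx => let ⟨k, hk⟩ := e.PS (e.T1S hx); h k x hx hk
  intro k
  induction k with
  | zero => intro x _ h g _ _; rw [pow_zero, pow_one] at h; rw [h, mul_one, mul_inv_cancel]; exact one_mem _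
  | succ k ih =>
    intro x hx h g hg hy
    have sq : g * (x * x) * g⁻¹ = g * x * g⁻¹ * (g * x * g⁻¹) := by group
    have h1 := ih (x * x) (mul_mem hx hx) (by rw [← pow_two, ← pow_mul, ← pow_succ', h]) g hg (sq ▸ mul_mem hy hy)
    obtain ⟨u, hu, v, hv, l⟩ := e.dec.1 hy
    have v2 : v * v = 1 := (e.split' (mul_mem hu hu) (mul_mem hv hv) h1 (one_mem _) (by
      rw [sq, l, mul_one, mul_assoc, mul_assoc, ← mul_assoc v, ← e.cT hu hv, mul_assoc])).2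
    by_contra n
    obtain ⟨b, hb, rfl⟩ := inv v hv v2 fun k => n (by rw [l, k, mul_one]; exact hu)
    have g' := mul_mem (inv_mem (e.le2 hb)) hg
    have l' : b⁻¹ * g * x * (b⁻¹ * g)⁻¹ = u * z := by
      calc _ = b⁻¹ * (g * x * g⁻¹) * b := by group
        _ = b⁻¹ * (u * b) * z := by rw [l]; group
        _ = _ := by rw [e.comm u (e.T1A hu) b hb]; group
    generalize b⁻¹ * g = g at g' l'
    have p2 : IsPGroup 2 e.T2 := e.sS.isP.to_le e.T2S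
    obtain ⟨P, hP, TP⟩ := exists_isSylowIn_le (L := e.G0 ⊓ centralizer {u * z}) p2
      fun a ha => ⟨e.le2 (e.T2B ha), mem_centralizer_singleton_iff.2 (by
        rw [← mul_assoc, ← e.cT hu ha, mul_assoc, cz a ha, mul_assoc])⟩
    obtain ⟨c, hc, h⟩ := hP.exists_cj_le (isPGroup_cj p2 g) (le_inf
      (cj_le_of_mem (fun a ha => e.le2 (e.T2B ha)) g') (by
        rw [← l', ← H69.cj_centralizer_singleton]
        exact cj_mono g fun a ha => mem_centralizer_singleton_iff.2 (e.cT hx ha).symm))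
    rw [cj_cj] at h
    have hN : c * g ∈ 𝐍(e.G0 ⊓ 𝐂(e.T2)) := by
      rw [← cj_eq_self_iff, cj_inf, cj_centralizer, cj_eq_of_mem_normalizer (nG _),
        wc2 P hP.isP (hP.le.trans inf_le_left) TP _ (mul_mem hc.1 g') h]
    have := conj_mem_of_mem_normalizer (le_normalizer_commutator le_rfl le_rfl hN) (AY' (e.T1A hx))
    rw [show c * g * x * (c * g)⁻¹ = c * (g * x * g⁻¹) * c⁻¹ by group, l', mem_centralizer_singleton_iff.1 hc.2,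
      mul_inv_cancel_right] at this
    exact nz ((Subgroup.mul_mem_cancel_left _ (AY' (e.T1A hu))).1 this)

/-- a strongly closed `T1` is abelian -/
theorem fin (hJ : J ≠ ⊥) {z : G} (hz : z ∈ e.G0) (z1 : z ≠ 1) (z2 : z * z = 1)
    (sc : ∀ x ∈ e.T1, ∀ g ∈ e.G0, g * x * g⁻¹ ∈ e.T1 ⊔ e.T2 → g * x * g⁻¹ ∈ e.T1) :
    ∀ a ∈ e.T1, ∀ g ∈ e.G0, a * g = g * a := by
  have := e.simple
  have hO : Cfsg.oddCore e.G0 = ⊥ := by
    refine sSup_eq_bot.2 fun N ⟨n, c⟩ => n.eq_bot_or_eq_top.resolve_right fun h => ?_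
    have : orderOf (⟨z, hz⟩ : e.G0) = 2 :=
      H9.orderOf_eq_two_of_mul_self (fun h => z1 (congrArg Subtype.val h)) (Subtype.ext z2)
    rw [h, card_top] at c
    exact absurd (Nat.Coprime.coprime_dvd_left (this ▸ _root_.orderOf_dvd_natCard (⟨z, hz⟩ : e.G0) : 2 ∣ _) c)
      (by decide)
  obtain ⟨P, hP⟩ := hS.exists_sylow_subgroupOf
  have n := Cfsg.Agent.S1173.result hO P (e.T1.subgroupOf e.G0)
    ⟨hP ▸ fun x hx => mem_sup_left hx, fun x hx g h => sc x hx g g.2 (by rw [hP] at h; exact h)⟩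
  set C := centralizer ((e.T1.subgroupOf e.G0 : Subgroup e.G0) : Set e.G0) with hC
  have BC : ∀ b (hb : b ∈ e.B), (⟨b, e.le2 hb⟩ : e.G0) ∈ C := fun b hb a ha =>
    Subtype.ext (e.comm a (e.T1A ha) b hb)
  have key : ∀ k, e.B ≤ ((derivedSeries C k).map C.subtype).map e.G0.subtype := fun k => by
    induction k with
    | zero => exact fun b hb => ⟨_, ⟨⟨_, BC b hb⟩, mem_top _, rfl⟩, rfl⟩
    | succ k ih =>
      rw [derivedSeries_succ, map_commutator, map_commutator]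
      exact e.c2.perf.trans (commutator_mono ih ih)
  obtain ⟨⟨j, hj⟩, j1⟩ := ne_bot_iff_exists_ne_one.1 hJ
  obtain ⟨b, hb, rfl⟩ := e.c2.onto j hj
  rcases n.eq_bot_or_eq_top with h | h
  · have : (⟨b, e.le2 hb⟩ : e.G0) ∈ (⨅ k, derivedSeries C k).map C.subtype :=
      ⟨⟨_, BC b hb⟩, mem_iInf.2 fun k => by
        obtain ⟨_, ⟨y, hy, rfl⟩, l⟩ := key k hb
        exact (Subtype.ext (Subtype.ext l) : y = ⟨_, BC b hb⟩) ▸ hy, rfl⟩
    rw [h, mem_bot] at this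
    exact absurd (Subtype.ext ((congrArg e.β2 (congrArg Subtype.val this : b = 1)).trans e.c2.one)) j1
  · intro a ha g hg
    obtain ⟨y, -, l⟩ : (⟨g, hg⟩ : e.G0) ∈ (⨅ k, derivedSeries C k).map C.subtype := h ▸ mem_top _
    exact congrArg Subtype.val ((l ▸ y.2 : (⟨g, hg⟩ : e.G0) ∈ C) ⟨a, e.le1 (e.T1A ha)⟩ ha)

end

variable [Finite X] {F : Fx X} (e : E2 F.J F.T G)

section
variable {z : G} (hz : z ∈ e.T1) (bz : e.β1 z = F.z)
include hz bz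

omit [Finite G] [Finite X] in
theorem eqz {a : G} (ha : a ∈ e.T1) (h : e.β1 a = F.z) : a = z :=
  e.c1.uniq (e.T1A ha) (e.T1A hz) (e.PS (e.T1S ha)) (e.PS (e.T1S hz)) (h.trans bz.symm)
omit [Finite G] [Finite X] hz in
theorem zne : z ≠ 1 := fun h => F.z1 (by rw [← bz, h, e.c1.one])
omit [Finite G] [Finite X] in
theorem zsq : z * z = 1 := by
  rw [← pow_two]; exact e.c1.pow_eq_one (e.T1A hz) (e.PS (e.T1S hz)) (by rw [bz, pow_two, F.z2])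
omit [Finite G] [Finite X] in
theorem zc : ∀ a ∈ e.T1, a * z = z * a := fun a ha =>
  e.c1.comm_lift (le_normalizer (e.T1A ha)) (e.T1A hz) (e.PS (e.T1S hz)) (bz ▸ F.cT _ ((e.m1 a).1 ha).2.2)
omit [Finite G] [Finite X] in
theorem zcT : ∀ a ∈ e.T1 ⊔ e.T2, a * z = z * a := sup_cm (e.zc hz bz) fun _ ha => (e.cT hz ha).symm

omit [Finite X] in
theorem cen1 : ∀ a ∈ e.T1, (∀ b ∈ e.T1, b * a = a * b) → a = 1 ∨ a = z := fun a ha h => by
  have k : ∀ x ∈ F.T, e.β1 a * x = x * e.β1 a := fun x hx => by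
    obtain ⟨b, hb, rfl⟩ := e.lift1 hx
    exact e.c1.comm (le_normalizer (e.T1A ha)) (le_normalizer (e.T1A hb)) (h b hb).symm
  exact (F.cQ _ (k _ F.qT) (k _ F.rT) (k _ F.y1T) (k _ F.y2T)).imp
    (e.c1.eq_one (e.T1A ha) (e.PS (e.T1S ha))) (e.eqz hz bz ha)

omit [Finite G] in
theorem inv1 : ∀ i ∈ e.T1, i * i = 1 → i ≠ 1 → ∃ b ∈ e.A, b * z * b⁻¹ = i := fun i hi i2 i1 => by
  have iA := e.T1A hi
  obtain ⟨j, hj, k⟩ := F.inv (e.c1.mem i iA) (e.c1.sq (le_normalizer iA) i2)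
    fun h => i1 (e.c1.eq_one iA (P2.of_sq i2) h)
  obtain ⟨b, hb, rfl⟩ := e.c1.onto j hj
  exact ⟨b, hb, e.c1.conj_eq (le_normalizer hb) (e.T1A hz) iA (e.PS (e.T1S hz)) (P2.of_sq i2) (bz ▸ k)⟩

omit [Finite G] in
theorem c8' {y i : G} (hy : y ∈ e.T1) (y4 : y ^ 4 = z) (hi : i ∈ e.T1) (i2 : i * i = 1) (c : y * i = i * y) :
    ∀ a ∈ e.T1 ⊔ e.T2, a * i = i * a := by
  by_cases h : e.β1 i = 1
  · rw [e.c1.eq_one (e.T1A hi) (P2.of_sq i2) h]; simp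
  have n := le_normalizer (e.T1A hy)
  have k : e.β1 y ^ 4 = F.z := by rw [← e.c1.pow n, y4, bz]
  rw [e.eqz hz bz hi ((F.c8 (e.c1.mem y (e.T1A hy)) (e.c1.p2 n (e.PS (e.T1S hy))) (k ▸ F.z1)
    (e.c1.mem i (e.T1A hi)) (e.c1.sq (le_normalizer (e.T1A hi)) i2) h
    (e.c1.comm n (le_normalizer (e.T1A hi)) c)).symm.trans k)]
  exact e.zcT hz bz

end

omit [Finite X] in
theorem nc : ∃ i ∈ e.T1, i * i = 1 ∧ ∃ b ∈ e.T1, b * i ≠ i * b := by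
  obtain ⟨i, hi, ei⟩ := e.lift1 F.rT
  obtain ⟨b, hb, eb⟩ := e.lift1 F.y1T
  refine ⟨i, hi, by rw [← pow_two]; exact e.c1.pow_eq_one (e.T1A hi) (e.PS (e.T1S hi)) (by rw [ei, pow_two, F.r2]),
    b, hb, fun h => F.z1 ?_⟩
  have := e.c1.comm (le_normalizer (e.T1A hb)) (le_normalizer (e.T1A hi)) h
  have k := F.ry1
  rw [ei, eb] at this
  rw [this, mul_assoc, F.y11] at k
  exact (mul_left_cancel k).symm

variable (hS : IsSylowIn 2 (e.T1 ⊔ e.T2) e.G0) {z1 z2 : G} (h1 : z1 ∈ e.T1) (b1 : e.β1 z1 = F.z)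
  (h2 : z2 ∈ e.T2) (b2 : e.β2 z2 = F.z)
include hS h1 b1 h2 b2

theorem n12 {g : G} (hg : g ∈ e.G0) : g * z1 * g⁻¹ ≠ z1 * z2 := fun h => by
  have c1 := e.zcT h1 b1
  have c2 : ∀ a ∈ e.T1 ⊔ e.T2, a * z2 = z2 * a := fun a ha => e.symm.zcT h2 b2 a (sup_comm e.T1 e.T2 ▸ ha)
  obtain ⟨σ, -, σN, k⟩ := burn hS hg c1 fun a ha => by rw [h, ← mul_assoc, c1 a ha, mul_assoc, c2 a ha, mul_assoc]
  rw [h] at k
  obtain ⟨a, ha, a4⟩ := F.w8
  obtain ⟨x, hx, rfl⟩ := e.lift1 ha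
  have x4 : x ^ 4 = z1 := e.eqz h1 b1 (pow_mem hx 4) (by rw [e.c1.pow (le_normalizer (e.T1A hx)), a4])
  obtain ⟨y1, hy1, y2, hy2, ly⟩ := e.dec.1 (conj_mem_of_mem_normalizer σN (mem_sup_left hx))
  have y4 := e.split' (pow_mem hy1 4) (pow_mem hy2 4) h1 h2 (by
    rw [← (Commute.mul_pow (e.cT hy1 hy2)), ← ly, conj_pow, x4, k])
  obtain ⟨i, hi, i2, b, hb, n⟩ := e.symm.nc
  obtain ⟨i1, hi1, j, hj, li⟩ := e.dec.1 (conj_mem_of_mem_normalizer σN (mem_sup_right hi))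
  have s := e.split (mul_mem hi1 hi1) (mul_mem hj hj) (by
    rw [← cjsq i2 σ, li, mul_assoc, mul_assoc, ← mul_assoc j, ← e.cT hi1 hj, mul_assoc])
  have c := e.split' (mul_mem hy1 hi1) (mul_mem hy2 hj) (mul_mem hi1 hy1) (mul_mem hj hy2) (by
    calc _ = y1 * (i1 * y2) * j := by group
      _ = σ * (x * i) * σ⁻¹ := by rw [e.cT hi1 hy2, ← mul_assoc, ← ly, mul_assoc, ← li]; group
      _ = σ * i * σ⁻¹ * (σ * x * σ⁻¹) := by rw [e.cT hx hi]; group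
      _ = i1 * (j * y1) * y2 := by rw [li, ly]; group
      _ = _ := by rw [← e.cT hy1 hj]; group)
  have hb' := conj_mem_of_mem_normalizer σN (mem_sup_right hb : b ∈ e.T1 ⊔ e.T2)
  have k1 := e.c8' h1 b1 hy1 y4.1 hi1 s.1 c.1 _ hb'
  have k2 := e.symm.c8' h2 b2 hy2 y4.2 hj s.2 c.2 _ (sup_comm e.T1 e.T2 ▸ hb')
  refine n ?_
  calc _ = σ⁻¹ * (σ * b * σ⁻¹ * (σ * i * σ⁻¹)) * σ := by group
    _ = σ⁻¹ * (σ * i * σ⁻¹ * (σ * b * σ⁻¹)) * σ := by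
      rw [li, ← mul_assoc _ i1, k1, mul_assoc i1, k2, mul_assoc i1]
    _ = _ := by group

theorem n1 {g : G} (hg : g ∈ e.G0) : g * z1 * g⁻¹ ≠ z2 := fun h => by
  have c1 := e.zcT h1 b1
  have c2 : ∀ a ∈ e.T1 ⊔ e.T2, a * z2 = z2 * a := fun a ha => e.symm.zcT h2 b2 a (sup_comm e.T1 e.T2 ▸ ha)
  have ne : z1 ≠ z2 := fun k => e.zne b1 (e.AB1 (e.T1A h1) (k ▸ e.T2B h2) (e.PS (e.T1S h1)))
  obtain ⟨σ, σG, σN, k⟩ := burn hS hg c1 fun a ha => by rw [h, c2 a ha]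
  rw [h] at k
  have k2 : σ * z2 * σ⁻¹ = z1 := by
    obtain ⟨u, hu, v, hv, l⟩ := e.dec.1 (conj_mem_of_mem_normalizer σN (mem_sup_right h2))
    have c : ∀ a ∈ e.T1 ⊔ e.T2, a * (u * v) = u * v * a := fun a ha => by
      rw [← l]
      calc _ = σ * (σ⁻¹ * a * σ * z2) * σ⁻¹ := by group
        _ = _ := by rw [c2 _ (conj_mem_of_mem_normalizer' σN ha)]; group
    rcases e.cen1 h1 b1 u hu fun a ha => mul_right_cancel (b := v) (by
      rw [mul_assoc, c a (mem_sup_left ha), mul_assoc, mul_assoc, e.cT ha hv]) with hu' | hu' <;>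
    rcases e.symm.cen1 h2 b2 v hv fun a ha => mul_left_cancel (a := u) (by
      rw [← mul_assoc, e.cT hu ha, mul_assoc, c a (mem_sup_right ha), mul_assoc]) with hv' | hv' <;>
    rw [hu', hv'] at l
    · exact absurd (by simpa using l) (cjne (e.symm.zne b2) σ)
    · rw [one_mul] at l
      exact absurd (mul_left_cancel (mul_right_cancel (k.trans l.symm))) ne
    · rwa [mul_one] at l
    · exact absurd (l.trans (e.cT h1 h2)) (e.symm.n12 (e.sS' hS) h2 b2 h1 b1 σG)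
  obtain ⟨m, ⟨r, rfl⟩, p⟩ := exists_odd_P2 σ
  have mT := hS.le_of_le_normalizer' p.zpowers (zpowers_le.2 (pow_mem σG _)) (zpowers_le.2 (pow_mem σN _))
    (mem_zpowers _)
  have c : Commute (σ ^ 2) z1 := mul_inv_eq_iff_eq_mul.1 (by
    calc _ = σ * (σ * z1 * σ⁻¹) * σ⁻¹ := by rw [pow_two]; group
      _ = _ := by rw [k, k2])
  refine ne (Eq.trans ?_ k)
  have := c1 _ mT
  rw [pow_succ', pow_mul, mul_assoc, (c.pow_left r).eq, ← mul_assoc, ← mul_assoc] at this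
  rw [mul_right_cancel this, mul_inv_cancel_right]

theorem fus1 : ∀ i ∈ e.T1, i * i = 1 → ∀ g ∈ e.G0, g * i * g⁻¹ ∈ e.T1 ⊔ e.T2 → g * i * g⁻¹ ∈ e.T1 := by
  intro i hi i2 g hg h
  obtain ⟨u, hu, v, hv, l⟩ := e.dec.1 h
  have s := e.split (mul_mem hu hu) (mul_mem hv hv) (by
    rw [← cjsq i2 g, l, mul_assoc, mul_assoc, ← mul_assoc v, ← e.cT hu hv, mul_assoc])
  by_contra n
  obtain ⟨b, hb, rfl⟩ := e.symm.inv1 h2 b2 v hv s.2 fun k => n (by rw [l, k, mul_one]; exact hu)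
  obtain ⟨a, ha, rfl⟩ := e.inv1 h1 b1 i hi i2 fun k => n (by rw [k, mul_one, mul_inv_cancel]; exact one_mem _)
  have G1 := mul_mem (mul_mem (inv_mem (e.le2 hb)) hg) (e.le1 ha)
  have k : b⁻¹ * g * a * z1 * (b⁻¹ * g * a)⁻¹ = u * z2 := by
    calc _ = b⁻¹ * (g * (a * z1 * a⁻¹) * g⁻¹) * b := by group
      _ = b⁻¹ * (u * b) * z2 := by rw [l]; group
      _ = _ := by rw [e.comm u (e.T1A hu) b hb]; group
  by_cases u1 : u = 1
  · exact e.n1 hS h1 b1 h2 b2 G1 (by rw [k, u1, one_mul])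
  obtain ⟨c, hc, rfl⟩ := e.inv1 h1 b1 u hu s.1 u1
  refine e.n12 hS h1 b1 h2 b2 (mul_mem (inv_mem (e.le1 hc)) G1) ?_
  calc _ = c⁻¹ * (b⁻¹ * g * a * z1 * (b⁻¹ * g * a)⁻¹) * c := by group
    _ = z1 * (c⁻¹ * z2) * c := by rw [k]; group
    _ = _ := by rw [e.comm _ (inv_mem hc) _ (e.T2B h2)]; group

end E2

theorem E2.false [Finite X] {F : Fx X} (e : E2 F.J F.T G) : False := by
  have hS := e.sylT
  obtain ⟨z1, h1, b1⟩ := e.lift1 F.zT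
  obtain ⟨z2, h2, b2⟩ := e.symm.lift1 F.zT
  obtain ⟨i, hi, -, b, hb, n⟩ := e.nc
  exact n (e.fin hS (Jne F) (e.le1 (e.T1A h1)) (e.zne b1) (e.zsq h1 b1)
    (e.sc hS h2 (e.symm.zne b2) (e.symm.zsq h2 b2) (e.symm.zc h2 b2) (e.symm.cen1 h2 b2) (e.symm.inv1 h2 b2)
      fun _ hP PG h _ hg => e.symm.wc (e.sS' hS) F.genT (e.symm.fus1 (e.sS' hS) h2 b2 h1 b1) hP PG h hg)
    b hb i (e.le1 (e.T1A hi)))

end H43.SW

theorem H36.SW.En.false {X : Type} [Group X] [Finite X] {G : Type*} [Group G] [Finite G] {F : Fx X}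
    {G0 : Subgroup G} {t : G} {A : Subgroup G} {β : G → X} (e : En F G0 t A β) : False :=
  let ⟨d⟩ := H43.SW.exists_E2 F.syl e.cov e.n0 e.simple e.le e.t2 e.comm e.kerF e.noH0 e.ctl
  d.false
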