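import Mathlib
import Cfsg.Prelude.Def_KGroupFacts
import Cfsg.Agent.Lib.StdW.Defs
import Cfsg.Agent.Lib.CGT.Srch
import Cfsg.Agent.Lib.CGT.Cent

/-! Words in a table of coded elements: tools for the verification of `Fx`. -/

set_option autoImplicit false

namespace H92.SW

open Subgroup H69 H54 Function

section
variable {G Ω : Type} [Group G] [MulAction G Ω] {c : Cfg} {pt : ℕ → Ω}

/-- a position of `v` in the array `x` (never trusted) -/
noncomputable def fnd (c : Cfg) (x v : ℕ) : ℕ :=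
  Nat.rec (motive := fun _ => ℕ) 0 (fun i ih => sel (Nat.beq (c.get x i) v) i ih) c.n

/-- `p` is `x` times a product of transversal elements -/
noncomputable def mb (c : Cfg) (ch : Chain) (p : ℕ) : ℕ → Bool :=
  Chain.rec (motive := fun _ => ℕ → Bool) (fun x => Nat.beq x p)
    (fun b D tbl _ _ _ ih x => force (c.get p b) fun v => force (fnd c x v) fun δ =>
      band (tb D δ) (force (c.net (tbl.get δ) x) ih)) ch

theorem in_of_mb (X : Ctx c pt) {L : Subgroup G} {p : ℕ} : ∀ {ch : Chain} {H : Subgroup G} {x : ℕ},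
    Low c pt ch H → H ≤ L → In c pt L x → mb c ch p x = true → In c pt L p
  | .nil, _, _, _, _, h, e => Nat.eq_of_beq_eq_true e ▸ h
  | .cons _ _ _ _ _ _, _, _, a, k, h, e =>
    have e' := (band_eq_true _ _).1 e
    in_of_mb X a.2.2 (inf_le_left.trans k) (h.net X ((a.2.1 _ e'.1).2.1.mono k)) e'.2

variable (c) (nec : ℕ → ℕ → ℕ → ℕ) (flt : ℕ → ℕ → ℕ → ℕ → Bool) (leaf : ℕ → Bool)

noncomputable def lvl (b : ℕ) (D : ℕ → Bool) (tbl : Tr) (ih : ℕ → ℕ → Bool) (B x : ℕ) : Bool :=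
  force (nec B x b) fun v => force (Nat.lor B (Nat.shiftLeft 1 b)) fun B' =>
    allLt (fun δ => bimp (D δ) (force (c.get x δ) fun w =>
      bimp (bor (Nat.beq v 0) (Nat.beq (Nat.succ w) v))
        (bimp (flt B x b w) (force (stepX c b tbl x δ) (ih B'))))) c.n

noncomputable def nos (ch : Chain) : ℕ → ℕ → Bool :=
  Chain.rec (motive := fun _ => ℕ → ℕ → Bool) (fun _ x => leaf x)
    (fun b D tbl _ _ _ ih => lvl c nec flt b (tb D) tbl ih) ch

noncomputable def int (chH : Chain) : Chain → ℕ → Bool :=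
  Chain.rec (motive := fun _ => Chain → ℕ → Bool) (fun chJ _ => isNil chJ.baseList)
    (fun b D tbl _ _ rest ih chJ B => Chain.rec (motive := fun _ => Bool) false
      (fun b' D' _ _ _ rest' _ => band (Nat.beq b b')
        (band (lvl c nec flt b (fun δ => band (tb D δ) (bnot (tb D' δ))) tbl
          (nos c nec flt leaf rest) B c.one) (ih rest' (Nat.lor B (Nat.shiftLeft 1 b))))) chJ) chH

variable {c nec flt leaf} (X : Ctx c pt) {Φ : G → Prop} (pr : Prune c pt Φ nec flt)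
  (hl : ∀ g p, Rep c pt g p → leaf p = true → ¬ Φ g)
include X pr

theorem lvl_sound {b D : ℕ} {tbl : Tr} {S : List ℕ} {W : List (List ℕ)} {rest : Chain}
    {H : Subgroup G} (a : Good c pt (.cons b D tbl S W rest) H) {E : ℕ → Bool} {B x : ℕ} {g h : G}
    (ih : ∀ {B x : ℕ} {g : G}, FixB c pt (H ⊓ MulAction.stabilizer G (pt b)) B → Rep c pt g x →
      nos c nec flt leaf rest B x = true → ∀ h ∈ H ⊓ MulAction.stabilizer G (pt b), ¬ Φ (g * h))
    (hB : FixB c pt H B) (rg : Rep c pt g x) (hh : h ∈ H) (hΦ : Φ (g * h))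
    (e : lvl c nec flt b E tbl (nos c nec flt leaf rest) B x = true) :
    ∃ δ, tb D δ = true ∧ h • pt b = pt δ ∧ ¬ E δ = true := by
  obtain ⟨f, rf⟩ := a.exists_repF X hh
  obtain ⟨δ, hδ, e1⟩ := a.2.2.1 h hh
  have h1 := (a.2.1 δ hδ).1
  obtain rfl : f b = δ := X.inj _ _ (rf b a.1).1 h1 (by rw [← (rf b a.1).2, e1])
  have hag : ∀ i, tb B i = true → i < c.n ∧ c.get x (f i) = c.get x i := fun i hi =>
    ⟨(hB i hi).1, by rw [X.inj _ _ (rf i (hB i hi).1).1 (hB i hi).1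
      (by rw [← (rf i (hB i hi).1).2, (hB i hi).2 h hh])]⟩
  simp only [lvl, force_eq, allLt_iff, bimp_eq_true, bor_eq_true, Nat.beq_eq] at e
  obtain ⟨t, ht, et, rt⟩ := a.2.1.step X a.1 hδ
  exact ⟨_, hδ, e1, fun k => ih (hB.step a.1) (rt g x rg) (e _ h1 k (or_iff_not_imp_left.2
    (pr.nec_ok B x b _ _ (RepF.mul rg rf) hΦ a.1 hag)) (pr.flt_ok B x b _ _ (RepF.mul rg rf) hΦ a.1 hag))
    _ (mem_inf_of_same ht hh (e1.trans et.symm)) (by simpa [mul_assoc] using hΦ)⟩

include hl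

theorem nos_sound : ∀ {ch : Chain} {H : Subgroup G}, Good c pt ch H → ∀ {B x : ℕ} {g : G},
    FixB c pt H B → Rep c pt g x → nos c nec flt leaf ch B x = true → ∀ h ∈ H, ¬ Φ (g * h)
  | .nil, H, a, _, x, _, _, rg, e, _, hh => hl _ x (RepF.mul_K rg ((show H = _ from a) ▸ hh)) e
  | .cons _ _ _ _ _ _, _, a, _, _, _, hB, rg, e, _, hh => fun hΦ =>
    let ⟨_, h1, _, h2⟩ := lvl_sound X pr a (nos_sound a.2.2.2) hB rg hh hΦ e; h2 h1

theorem int_sound {Z : Subgroup G} (hZ : ∀ g ∈ Z, Φ g) (hK : Kfix G c pt ≤ Z) :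
    ∀ {chH chJ : Chain} {H : Subgroup G}, Good c pt chH H → Low c pt chJ (H ⊓ Z) → ∀ {B : ℕ},
      FixB c pt H B → int c nec flt leaf chH chJ B = true → Good c pt chJ (H ⊓ Z)
  | .nil, .nil, H, a, _, _, _, _ => by rw [show H = _ from a]; exact inf_eq_left.2 hK
  | .nil, .cons _ _ _ _ _ _, _, _, _, _, _, e => Bool.noConfusion e
  | .cons _ _ _ _ _ _, .nil, _, _, _, _, _, e => Bool.noConfusion e
  | .cons b D tbl S W rest, .cons b' D' tbl' S' W' rest', H, a, l, B, hB, e => by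
    obtain ⟨e1, e2⟩ := (band_eq_true _ _).1 e
    obtain rfl := Nat.eq_of_beq_eq_true e1
    obtain ⟨h2, h3⟩ := (band_eq_true _ _).1 e2
    have e1 := inf_right_comm H Z (MulAction.stabilizer G (pt b))
    refine ⟨l.1, l.2.1, fun h hh => ?_, e1 ▸ int_sound hZ hK a.2.2.2 (e1 ▸ l.2.2) (hB.step a.1) h3⟩
    obtain ⟨δ, k1, k2, k3⟩ := lvl_sound X pr a (nos_sound X pr hl a.2.2.2) hB (rep_one X) hh.1
      (by rw [one_mul]; exact hZ h hh.2) h2
    exact ⟨δ, by simpa [k1] using k3, k2⟩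

end

/-- the data of a model -/
structure Dt where
  c : Cfg
  b : ℕ
  T : Tr
  W : ℕ → List (List ℕ)
  m : ℕ
  X : Chain
  J : Chain
  cC : Chain
  cP : Chain
  cH : Chain
  cT : Chain
  cS : Chain
  cU : Chain
  cZ : Chain
  cV : Chain

namespace Dt

variable (D : Dt)

noncomputable def cl : ℕ → ℕ := D.T.get

noncomputable def mb (ch : Chain) (l : ℕ) : Bool :=
  force (D.cl l) fun p => H92.SW.mb D.c ch p D.c.one

/-- equality of two words on the base -/
noncomputable def ew (cl : ℕ → ℕ) (v w : List ℕ) : Bool :=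
  allL (fun b => Nat.beq (wl D.c cl v b) (wl D.c cl w b)) (D.b :: D.X.baseList)

noncomputable def cm (cl : ℕ → ℕ) (u v : List ℕ) : Bool := D.ew cl (u ++ v) (v ++ u)

noncomputable def cj (cl : ℕ → ℕ) (u a v : List ℕ) : Bool := D.ew cl (u ++ a) (v ++ u)

noncomputable def sub (u L : List ℕ) : Bool := allL (fun l => anyL (Nat.beq l) L) u

/-- some word of the list `k`, in the letters `L`, satisfies `f` -/
noncomputable def ex (k : ℕ) (L : List ℕ) (f : List ℕ → Bool) : Bool :=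
  anyL (fun u => band (f u) (sub u L)) (D.W k)

/-- conjugation by the letter `n` maps the letters `L` to words in `L'` -/
noncomputable def nm (k n : ℕ) (L L' : List ℕ) : Bool :=
  allL (fun g => D.ex k L' fun u => D.cj D.cl [n] [g] u) L

noncomputable def all (ch : Chain) (P : (ℕ → ℕ) → Bool) : Bool :=
  allElts D.c (fun p => P (extL D.cl 0 p)) ch D.c.one

noncomputable def gd (ch : Chain) (L : List ℕ) : Bool :=
  band (eqL ch.gens (L.map D.cl)) (band (checkLow D.c ch) (checkUp D.c ch))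

noncomputable def ce (ch ch' : Chain) (L : List ℕ) : Bool :=
  band (band (checkLow D.c ch') (allL (fun s => band (H92.SW.mb D.c ch s D.c.one)
    (allL (fun l => commutes D.c s (D.cl l)) L)) ch'.gens))
    (int D.c (necConj D.c (diagL (L.map D.cl))) (fltConj D.c (diagL (L.map D.cl)))
      (leafConj D.c (diagL (L.map D.cl))) ch ch' 0)

noncomputable def val : Bool :=
  band (band (D.T.piv 150) (Nat.ble (Nat.succ D.b) D.c.n))
    (band (allFrom (fun l => D.mb D.X l) 80 71) (allLt (fun l => D.mb D.J l) 80))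

/-- the index of the group of `ch` in the group of `ch'` is prime to `p` -/
noncomputable def idx (p : ℕ) (ch ch' : Chain) : Bool :=
  bnot (Nat.beq (Nat.mod (Nat.div (ch'.size D.c.n) (ch.size D.c.n)) p) 0)

noncomputable def syl (ch ch' : Chain) : Bool :=
  band (Nat.beq (ch.size D.c.n) (Nat.pow 2 (Nat.log2 (ch.size D.c.n)))) (D.idx 2 ch ch')

end Dt

variable {G Ω : Type} [Group G] [MulAction G Ω] {pt : ℕ → Ω} {D : Dt} {J : Subgroup G}
  {lt : ℕ → G}

/-- the group generated by the letters `L` -/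
def cs (lt : ℕ → G) (L : List ℕ) : Subgroup G := closure {g | g ∈ L.map lt}

theorem mem_cs (lt : ℕ → G) {L : List ℕ} {l : ℕ} (h : l ∈ L) : lt l ∈ cs lt L :=
  subset_closure (List.mem_map_of_mem h)

theorem cs_le {L : List ℕ} {H : Subgroup G} (h : ∀ l ∈ L, lt l ∈ H) : cs lt L ≤ H :=
  (closure_le _).2 fun _ hg => let ⟨l, hl, e⟩ := List.mem_map.1 hg; e ▸ h l hl

theorem lw_nil : lw lt [] = 1 := rfl
theorem lw_one (a : ℕ) : lw lt [a] = lt a := mul_one _
theorem lw_cons (a : ℕ) (v : List ℕ) : lw lt (a :: v) = lt a * lw lt v := List.prod_cons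
theorem lw_rep (a k : ℕ) : lw lt (List.replicate k a) = lt a ^ k := by simp [lw]

theorem mem_sub {u L : List ℕ} (e : Dt.sub u L = true) : lw lt u ∈ cs lt L := by
  simp only [Dt.sub, allL_iff, anyL_iff, Nat.beq_eq, exists_eq_right'] at e
  exact Subgroup.list_prod_mem _ fun g hg => let ⟨l, hl, e1⟩ := List.mem_map.1 hg; e1 ▸ mem_cs lt (e l hl)

theorem mem_upd {u L : List ℕ} {g : G} (e : Dt.sub u L = true) (h : 0 ∉ L := by decide) :
    lw (update lt 0 g) u ∈ cs lt L :=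
  cs_le (fun l hl => by rw [update_of_ne fun e : l = 0 => h (e ▸ hl)]; exact mem_cs lt hl) (mem_sub e)

/-- the table `cl` codes the letters `lt` -/
def Ev (D : Dt) (cl : ℕ → ℕ) (lt : ℕ → G) : Prop :=
  ∀ v w, D.ew cl v w = true ↔ lw lt v = lw lt w

theorem Ev.ew {cl : ℕ → ℕ} (h : Ev D cl lt) (v w : List ℕ) :
    D.ew cl v w = true ↔ lw lt v = lw lt w := h v w

theorem Ev.cm {cl : ℕ → ℕ} (h : Ev D cl lt) (u v : List ℕ) :
    D.cm cl u v = true ↔ lw lt u * lw lt v = lw lt v * lw lt u := by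
  rw [Dt.cm, h, lw_append, lw_append]

theorem Ev.cj {cl : ℕ → ℕ} (h : Ev D cl lt) (u a v : List ℕ) :
    D.cj cl u a v = true ↔ lw lt u * lw lt a * (lw lt u)⁻¹ = lw lt v := by
  rw [Dt.cj, h, lw_append, lw_append, mul_inv_eq_iff_eq_mul]

structure Md (D : Dt) (pt : ℕ → Ω) (J : Subgroup G) (lt : ℕ → G) : Prop where
  x : Ctx D.c pt
  K : Kfix G D.c pt = ⊥
  aX : Good D.c pt D.X (⊤ : Subgroup G)
  aJ : Good D.c pt D.J J
  b : D.b < D.c.n
  rep : ∀ l, Rep D.c pt (lt l) (D.cl l)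
  mem : ∀ l, 1 ≤ l → l < 80 → lt l ∈ J

theorem exists_md (x : Ctx D.c pt) (K : Kfix G D.c pt = ⊥) (aX : Good D.c pt D.X (⊤ : Subgroup G))
    (aJ : Good D.c pt D.J J) (e : D.val = true) : ∃ lt, Md D pt J lt := by
  simp only [Dt.val, band_eq_true, allLt_iff, allFrom_iff, Nat.ble_eq] at e
  have hJ := fun l h => in_of_mb x aJ.low le_rfl (in_one x _) (e.2.2 l h)
  have hX := fun l h h' => in_of_mb x aX.low le_rfl (in_one x _) (e.2.1 l h h')
  have : ∀ l, ∃ g : G, Rep D.c pt g (D.cl l) := fun l => by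
    rcases lt_or_ge l 80 with h | h
    · exact (hJ l h).imp fun _ h => h.2
    rcases le_total l 150 with h' | h'
    · exact (hX l h (by omega)).imp fun _ h => h.2
    · rw [Dt.cl, Tr.get_ge h' _ e.1.1]
      exact (hX 150 (by omega) (by omega)).imp fun _ h => h.2
  choose lt h using this
  exact ⟨lt, x, K, aX, aJ, e.1.2, h, fun l _ b => (hJ l b).mem aJ.K_le (h l)⟩

theorem base_lt {c : Cfg} : ∀ {ch : Chain} {H : Subgroup G}, Good c pt ch H →
    ∀ b ∈ ch.baseList, b < c.n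
  | .nil, _, _, _, h => absurd h List.not_mem_nil
  | .cons _ _ _ _ _ _, _, a, b, h => (List.mem_cons.1 h).elim (fun e => e ▸ a.1) (base_lt a.2.2.2 b)

namespace Md

variable (m : Md D pt J lt) {ch ch' : Chain} {H H' : Subgroup G} {L L' : List ℕ}
include m

theorem ew_iff {cl : ℕ → ℕ} {lt : ℕ → G} (h : ∀ l, Rep D.c pt (lt l) (cl l)) :
    Ev D cl lt := fun v w => by
  have hb : ∀ b ∈ D.b :: D.X.baseList, b < D.c.n := fun b hb =>
    (List.mem_cons.1 hb).elim (fun e => e ▸ m.b) (base_lt m.aX b)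
  simp only [Dt.ew, allL_iff, Nat.beq_eq]
  refine ⟨fun e => ?_, fun e b h1 => (repF_wl h v).eq_on m.x
    ((show (v.map lt).prod = (w.map lt).prod from e) ▸ repF_wl h w) b (hb b h1)⟩
  have := m.aX.mem_K_of_fix ((lw lt w)⁻¹ * lw lt v) trivial fun b h1 => by
    have h2 := List.mem_cons_of_mem D.b h1
    rw [mul_smul, inv_smul_eq_iff]
    exact (repF_wl h v b (hb b h2)).2.trans (e b h2 ▸ (repF_wl h w b (hb b h2)).2.symm)
  rw [m.K, mem_bot, inv_mul_eq_one] at this
  exact this.symm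

theorem ev : Ev D D.cl lt := m.ew_iff m.rep

theorem all (a : Good D.c pt ch H) {P : (ℕ → ℕ) → Bool} (e : D.all ch P = true) {g : G}
    (hg : g ∈ H) : ∃ cl, P cl = true ∧ Ev D cl (update lt 0 g) := by
  obtain ⟨p, r, hp⟩ := a.forall_of_allElts m.x e g hg
  refine ⟨_, hp, m.ew_iff fun l => ?_⟩
  rw [extL, sel_eq]
  split_ifs with h <;> rw [Nat.beq_eq] at h
  · rwa [h, update_self]
  · rw [update_of_ne h]; exact m.rep l

theorem f2 (L : List ℕ) : List.Forall₂ (Rep D.c pt) (L.map lt) (L.map D.cl) := by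
  rw [List.forall₂_map_left_iff, List.forall₂_map_right_iff, List.forall₂_same]
  exact fun l _ => m.rep l

theorem grp (e : eqL ch.gens (L.map D.cl) = true) : grp G D.c pt ch.gens = cs lt L := by
  rw [eq_of_eqL _ _ e]; exact grp_eq_closure m.K (m.f2 L)

theorem gd (e : D.gd ch L = true) : Good D.c pt ch (cs lt L) := by
  simp only [Dt.gd, band_eq_true] at e
  exact m.grp e.1 ▸ good_of_check m.x (eq_of_eqL _ _ e.1 ▸ valid_of_forall₂ (m.f2 L)) e.2.1 e.2.2

theorem ce (a : Good D.c pt ch H) (e : D.ce ch ch' L = true) :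
    Good D.c pt ch' (H ⊓ centralizer {g | g ∈ L.map lt}) ∧
      H54.grp G D.c pt ch'.gens = H ⊓ centralizer {g | g ∈ L.map lt} := by
  simp only [Dt.ce, band_eq_true, allL_iff] at e
  have hL : PairsRep D.c pt (diagL (L.map D.cl)) fun g => g ∈ centralizer {g | g ∈ L.map lt} := by
    intro q hq
    obtain ⟨_, hp, rfl⟩ := mem_diagL.1 hq
    obtain ⟨l, hl, rfl⟩ := List.mem_map.1 hp
    exact ⟨_, _, m.rep l, m.rep l, fun g hg => (hg _ (List.mem_map_of_mem hl)).symm⟩
  have hS : ∀ s ∈ ch'.gens, In D.c pt (H ⊓ centralizer {g | g ∈ L.map lt}) s := fun s hs => by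
    obtain ⟨g, hg, r⟩ := in_of_mb m.x a.low le_rfl (in_one m.x _) (e.1.2 s hs).1
    refine ⟨g, ⟨hg, fun A hA => ?_⟩, r⟩
    obtain ⟨l, hl, rfl⟩ := List.mem_map.1 hA
    exact ((r.commutes_iff m.x m.K (m.rep l)).1 ((e.1.2 s hs).2 l hl)).symm
  exact (int_sound m.x (prune_conj m.x hL) (leafConj_ok m.x hL) (fun _ h => h) (m.K ▸ bot_le) a
    (low_of_check m.x hS e.1.1) (fixB_zero H) e.2).base_change m.x hS e.1.1 le_rfl

theorem mb (a : Good D.c pt ch H) {l : ℕ} (e : D.mb ch l = true) : lt l ∈ H :=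
  (in_of_mb m.x a.low le_rfl (in_one m.x _) e).mem a.K_le (m.rep l)

theorem le_J (h : ∀ l ∈ L, 1 ≤ l ∧ l < 80 := by decide) : cs lt L ≤ J :=
  cs_le fun l hl => m.mem l (h l hl).1 (h l hl).2

theorem nm {k n : ℕ} (e : D.nm k n L L' = true) : cs lt L ^ᶜ lt n ≤ cs lt L' := by
  simp only [Dt.nm, Dt.ex, allL_iff, anyL_iff, band_eq_true, m.ev.cj, lw_one] at e
  refine cj_le_iff.2 (cs_le fun l hl => ?_)
  obtain ⟨u, -, e1, e2⟩ := e l hl
  rw [mem_cj, inv_inv, e1]
  exact mem_sub e2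

theorem rel (a : Good D.c pt ch H) (a' : Good D.c pt ch' H') (h : H ≤ H') :
    H.relIndex H' = ch'.size D.c.n / ch.size D.c.n := by
  have := (H.subgroupOf H').card_mul_index
  rw [Nat.card_congr (subgroupOfEquivOfLe h).toEquiv, a.card m.x m.K, a'.card m.x m.K] at this
  rw [← this, Nat.mul_div_cancel_left _ (a.size_pos m.x), relIndex]

theorem idx (a : Good D.c pt ch H) (a' : Good D.c pt ch' H') (h : H ≤ H') {p : ℕ}
    (e : D.idx p ch ch' = true) : ¬ p ∣ H.relIndex H' := by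
  rw [Dt.idx, bnot_eq_true, Nat.beq_eq] at e
  rw [m.rel a a' h]
  exact fun d => e (Nat.mod_eq_zero_of_dvd d)

theorem syl [Finite G] (a : Good D.c pt ch H) (a' : Good D.c pt ch' H') (h : H ≤ H')
    (e : D.syl ch ch' = true) : IsSylowIn 2 H H' := by
  rw [Dt.syl, band_eq_true, Nat.beq_eq] at e
  exact isSylowIn_of_not_dvd_relIndex (IsPGroup.of_card ((a.card m.x m.K).trans e.1)) h
    (m.idx a a' h e.2)

end Md

theorem eqns_Mod0 : True := by
  have := @Dt.cl.eq_1
  have := @Dt.ew.eq_1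
  have := @Dt.sub.eq_1
  have := @Dt.mb.eq_1
  have := @fnd.eq_1
  have := @mb.eq_1
  have := @lvl.eq_1
  have := @nos.eq_1
  have := @int.eq_1
  have := @Dt.cm.eq_1
  have := @Dt.cj.eq_1
  have := @Ev.eq_1
  have := @Dt.ex.eq_1
  have := @Dt.nm.eq_1
  have := @Dt.all.eq_1
  have := @Dt.gd.eq_1
  have := @Dt.ce.eq_1
  have := @Dt.val.eq_1
  have := @Dt.idx.eq_1
  have := @Dt.syl.eq_1
  have := @cs.eq_1
  trivial

end H92.SW
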