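import Mathlib
import Cfsg.Agent.Lib.StdW.A
import Cfsg.Agent.Lib.StdW.E
import Cfsg.Agent.Lib.StdW.F

/-! No standard subgroup of type `J` when `F*(G)` is simple. -/

set_option autoImplicit false

namespace H36.SW

theorem Fx.no_std {X : Type} [Group X] [Finite X] {G : Type*} [Group G] [Finite G] (F : Fx X)
    (hF : IsSimpleGroup (Cfsg.generalizedFittingSubgroup G))
    (hF' : ¬ IsMulCommutative (Cfsg.generalizedFittingSubgroup G)) {L : Subgroup G}
    (hL : Cfsg.IsStandardSubgroup L) (e : (L ⧸ Cfsg.oddCore L) ≃* F.J) : False := by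
  obtain ⟨α, c⟩ := cov_of_iso F hL.1 e
  obtain ⟨h0, t, O, w⟩ := exists_W F hF hF' hL c
  obtain ⟨A, β, en⟩ := w.exists_en inferInstance hF h0
  exact en.false

end H36.SW
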